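import Groth.Agent.QCPull72.Closed
import Groth.Agent.QC70.SubMod
import Groth.Agent.QC70.PushClosed
import Groth.Prelude.Def_Dual3

/-!
Direct image along a closed immersion is full; quasi-coherence of `i_* Hom(O_Z, F)`.
-/

set_option autoImplicit false
set_option backward.isDefEq.respectTransparency.types false

noncomputable section

universe u

open CategoryTheory Limits AlgebraicGeometry TopologicalSpace Opposite
open Groth.Agent.QC70

namespace Groth.Agent.Props58.HomO

variable {X Z : Scheme.{u}} (i : Z ⟶ X) [IsClosedImmersion i]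

/-- The largest open of `X` with preimage `V`. -/
def bigOpen (V : Z.Opens) : X.Opens :=
  ⟨(i.base '' (V : Set Z)ᶜ)ᶜ, (i.isClosedEmbedding.isClosedMap _ V.2.isClosed_compl).isOpen_compl⟩

theorem preimage_bigOpen (V : Z.Opens) : i ⁻¹ᵁ bigOpen i V = V := by
  ext z
  constructor
  · intro h
    by_contra hz
    exact h ⟨z, hz, rfl⟩
  · rintro hz ⟨y, hy, hyz⟩
    exact hy (i.isClosedEmbedding.injective hyz ▸ hz)

theorem bigOpen_mono {V W : Z.Opens} (h : V ≤ W) : bigOpen i V ≤ bigOpen i W :=
  fun _ hx ⟨y, hy, e⟩ => hx ⟨y, fun hyV => hy (h hyV), e⟩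

theorem le_bigOpen (U : X.Opens) : U ≤ bigOpen i (i ⁻¹ᵁ U) :=
  fun _ hx ⟨_, hy, e⟩ => hy (show i.base _ ∈ U from e ▸ hx)

variable {i} {M N : Z.Modules} (h : (Scheme.Modules.pushforward i).obj M ⟶ (Scheme.Modules.pushforward i).obj N)

/-- The descended map on sections. -/
def descFun (V : Z.Opens) (s : Γ(M, V)) : Γ(N, V) :=
  res N (preimage_bigOpen i V).ge
    (show Γ(N, i ⁻¹ᵁ bigOpen i V) from h.app (bigOpen i V)
      (show Γ((Scheme.Modules.pushforward i).obj M, bigOpen i V) from res M (preimage_bigOpen i V).le s))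

theorem app_eq_descFun (U : X.Opens) (s : Γ(M, i ⁻¹ᵁ U)) :
    (show Γ(N, i ⁻¹ᵁ U) from h.app U (show Γ((Scheme.Modules.pushforward i).obj M, U) from s)) =
      descFun h (i ⁻¹ᵁ U) s := by
  have h1 := app_res h (le_bigOpen i U)
    (show Γ((Scheme.Modules.pushforward i).obj M, bigOpen i (i ⁻¹ᵁ U)) from
      res M (preimage_bigOpen i (i ⁻¹ᵁ U)).le s)
  have h2 : res ((Scheme.Modules.pushforward i).obj M) (le_bigOpen i U)
      (show Γ((Scheme.Modules.pushforward i).obj M, bigOpen i (i ⁻¹ᵁ U)) from
        res M (preimage_bigOpen i (i ⁻¹ᵁ U)).le s) = (show Γ((Scheme.Modules.pushforward i).obj M, U) from s) := by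
    show res M (i.preimage_mono (le_bigOpen i U)) (res M _ s) = s
    rw [res_res, res_self]
  rw [h2] at h1
  exact h1

theorem descFun_add (V : Z.Opens) (s t : Γ(M, V)) : descFun h V (s + t) = descFun h V s + descFun h V t := by
  have h1 : res M (preimage_bigOpen i V).le (s + t) = res M _ s + res M _ t := map_add _ s t
  unfold descFun
  rw [h1]
  refine (congrArg (res N _) (map_add (h.app (bigOpen i V)).hom
    (show Γ((Scheme.Modules.pushforward i).obj M, bigOpen i V) from res M (preimage_bigOpen i V).le s)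
    (show Γ((Scheme.Modules.pushforward i).obj M, bigOpen i V) from res M (preimage_bigOpen i V).le t))).trans ?_
  exact map_add (N.presheaf.map (homOfLE (preimage_bigOpen i V).ge).op).hom _ _

theorem res_descFun {V W : Z.Opens} (hWV : W ≤ V) (s : Γ(M, V)) :
    descFun h W (res M hWV s) = res N hWV (descFun h V s) := by
  have h1 := app_res h (bigOpen_mono i hWV)
    (show Γ((Scheme.Modules.pushforward i).obj M, bigOpen i V) from res M (preimage_bigOpen i V).le s)
  have h2 : res ((Scheme.Modules.pushforward i).obj M) (bigOpen_mono i hWV)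
      (show Γ((Scheme.Modules.pushforward i).obj M, bigOpen i V) from res M (preimage_bigOpen i V).le s) =
      (show Γ((Scheme.Modules.pushforward i).obj M, bigOpen i W) from
        res M (preimage_bigOpen i W).le (res M hWV s)) := by
    show res M (i.preimage_mono (bigOpen_mono i hWV)) (res M _ s) = res M _ (res M hWV s)
    rw [res_res, res_res]
  rw [h2] at h1
  refine (congrArg (res N (preimage_bigOpen i W).ge) h1).trans ?_
  show res N _ (res N (i.preimage_mono (bigOpen_mono i hWV)) _) = _
  rw [descFun, res_res, res_res]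

theorem descFun_smul (V : Z.Opens) (a : Γ(Z, V)) (s : Γ(M, V)) : descFun h V (a • s) = a • descFun h V s := by
  refine section_ext N _ _ fun p hp => ?_
  obtain ⟨_, ⟨U, hU, rfl⟩, hpU, hUV⟩ := X.isBasis_affineOpens.exists_subset_of_mem_open
    (show i.base p ∈ bigOpen i V from ((preimage_bigOpen i V).ge hp : p ∈ i ⁻¹ᵁ bigOpen i V)) (bigOpen i V).2
  have hle : i ⁻¹ᵁ U ≤ V := (i.preimage_mono hUV).trans (preimage_bigOpen i V).le
  refine ⟨i ⁻¹ᵁ U, hle, hpU, ?_⟩
  obtain ⟨b, hb⟩ := i.app_surjective U hU (resO Z hle a)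
  rw [← res_descFun, res_smul, res_smul, ← res_descFun, ← hb, ← app_eq_descFun, ← app_eq_descFun]
  exact Scheme.Modules.Hom.app_smul h b (show Γ((Scheme.Modules.pushforward i).obj M, U) from res M hle s)

theorem exists_map_eq : ∃ φ : M ⟶ N, (Scheme.Modules.pushforward i).map φ = h :=
  ⟨HomOn.toHom
    { app := fun V _ =>
        { toFun := descFun h V
          map_add' := descFun_add h V
          map_smul' := descFun_smul h V }
      app_res := fun _ hWV s => res_descFun h hWV s },
    Scheme.Modules.hom_ext _ _ fun U => by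
      ext s
      exact (app_eq_descFun h U s).symm⟩

omit h

variable (i) (F : X.Modules)

/-- Sections killed by the ideal of `Z`. -/
def killed : LocalSubmod F where
  obj V :=
    { carrier := {s | ∀ (U : X.affineOpens) (hUV : U.1 ≤ V) (a : Γ(X, U.1)), a ∈ i.ker.ideal U → a • res F hUV s = 0}
      add_mem' := fun {s t} hs ht U hUV a ha => by
        rw [show res F hUV (s + t) = res F hUV s + res F hUV t from map_add _ _ _, smul_add, hs U hUV a ha,
          ht U hUV a ha, add_zero]
      zero_mem' := fun U hUV a _ => by rw [show res F hUV (0 : Γ(F, V)) = 0 from map_zero _, smul_zero]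
      smul_mem' := fun c s hs U hUV a ha => by rw [res_smul, smul_comm, hs U hUV a ha, smul_zero] }
  res_mem {V W} hWV s hs U hUW a ha := by
    rw [res_res]
    exact hs U (hUW.trans hWV) a ha
  of_locally {V} s hloc U hUV a ha := by
    refine section_ext F _ _ fun p hp => ?_
    obtain ⟨W, hWV, hpW, hs⟩ := hloc p (hUV hp)
    obtain ⟨f, hf, hpf⟩ := U.2.exists_basicOpen_le ⟨p, show p ∈ W from hpW⟩ hp
    refine ⟨X.basicOpen f, X.basicOpen_le f, hpf, ?_⟩
    have ha' : resO X (X.basicOpen_le f) a ∈ i.ker.ideal (X.affineBasicOpen f) := by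
      rw [← i.ker.map_ideal_basicOpen U f]
      exact Ideal.mem_map_of_mem _ ha
    rw [res_smul, res_res, show res F (X.basicOpen_le f) (0 : Γ(F, U.1)) = 0 from map_zero _]
    have := hs (X.affineBasicOpen f) hf _ ha'
    rwa [res_res] at this

theorem mem_killed_of_affine (U : X.affineOpens) (s : Γ(F, U.1))
    (hs : ∀ a ∈ i.ker.ideal U, a • s = 0) : s ∈ (killed i F).obj U.1 := by
  intro U' hU' a' ha'
  refine section_ext F _ _ fun p hp => ?_
  obtain ⟨f, g, hfg, hpf⟩ := exists_basicOpen_le_affine_inter U'.2 U.2 p ⟨hp, hU' hp⟩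
  refine ⟨X.basicOpen f, X.basicOpen_le f, hpf, ?_⟩
  rw [res_smul, res_res, show res F (X.basicOpen_le f) (0 : Γ(F, U'.1)) = 0 from map_zero _]
  have hle : X.basicOpen f ≤ X.basicOpen g := hfg.le
  have key : ∀ b : Γ(X, X.basicOpen g), b ∈ (i.ker.ideal (X.affineBasicOpen g) : Ideal Γ(X, X.basicOpen g)) →
      b • res F (X.basicOpen_le g) s = 0 := by
    rw [← i.ker.map_ideal_basicOpen U g, Ideal.map]
    intro b hb
    induction hb using Submodule.span_induction with
    | mem y hy =>
      obtain ⟨c, hc, rfl⟩ := hy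
      show resO X (X.basicOpen_le g) c • res F (X.basicOpen_le g) s = 0
      rw [← res_smul, hs c hc]
      exact map_zero _
    | zero => exact zero_smul _ _
    | add y z _ _ hy hz => rw [add_smul, hy, hz, add_zero]
    | smul c y _ hy => rw [smul_eq_mul, mul_smul, hy, smul_zero]
  have hkill : ∀ (D : X.affineOpens) (hD : D.1 ≤ U.1), D = X.affineBasicOpen g →
      ∀ b ∈ i.ker.ideal D, b • res F hD s = 0 := by
    rintro D hD rfl b hb
    exact key b hb
  refine hkill (X.affineBasicOpen f) _ (Subtype.ext hfg) _ ?_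
  rw [← i.ker.map_ideal_basicOpen U' f]
  exact Ideal.mem_map_of_mem _ ha'

theorem ideal_fg [LocallyOfFinitePresentation i] (U : X.affineOpens) : (i.ker.ideal U).FG := by
  rw [Scheme.Hom.ker_apply]
  have h : (i.app U.1).hom.FinitePresentation := by
    rw [Scheme.Hom.app_eq_appLE]
    exact i.finitePresentation_appLE U.2 (U.2.preimage i) _
  algebraize [(i.app U.1).hom]
  exact Algebra.FinitePresentation.ker_fG_of_surjective (Algebra.ofId Γ(X, U.1) Γ(Z, i ⁻¹ᵁ U.1))
    (i.app_surjective U.1 U.2)

theorem isQuasicoherent_killed [LocallyOfFinitePresentation i] [F.IsQuasicoherent] :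
    (killed i F).mod.IsQuasicoherent := by
  refine isQuasicoherent_of_forall_isLocAt _ fun U hU => ?_
  have hF := isLocAt_of_isQuasicoherent F hU
  let U₀ : X.affineOpens := ⟨U, hU⟩
  refine ⟨fun f s => ?_, fun f t ht => ?_⟩
  · obtain ⟨n, t, ht⟩ := hF.exists_of f ((killed i F).ι.app _ s)
    classical
    obtain ⟨S, hS⟩ := ideal_fg i U₀
    have hk : ∀ a ∈ i.ker.ideal U₀, ∃ m : ℕ, f ^ m • (a • t) = 0 := by
      intro a ha
      refine hF.eq_zero_of f (a • t) ?_
      rw [res_smul, ht]
      have hmem : (killed i F).ι.app _ s ∈ (killed i F).obj (X.basicOpen f) :=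
        (show (killed i F).obj (X.basicOpen f) from s).2
      have ha' : resO X (X.basicOpen_le f) a ∈
          (i.ker.ideal (X.affineBasicOpen (U := U₀) f) : Ideal Γ(X, X.basicOpen f)) := by
        rw [← i.ker.map_ideal_basicOpen U₀ f]
        exact Ideal.mem_map_of_mem _ ha
      have h2 := hmem (X.affineBasicOpen (U := U₀) f) le_rfl _ ha'
      rw [smul_comm]
      refine (congrArg (resO X (X.basicOpen_le f) f ^ n • ·) ?_).trans (smul_zero _)
      exact (congrArg (resO X (X.basicOpen_le f) a • ·) (res_self _)).symm.trans h2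
    choose m hm using hk
    let mm := ∑ a ∈ S.attach, m a.1 (hS ▸ Ideal.subset_span a.2)
    have hkill : ∀ a ∈ i.ker.ideal U₀, a • (f ^ mm • t) = 0 := by
      rw [← hS]
      intro a ha
      induction ha using Submodule.span_induction with
      | mem y hy =>
        obtain ⟨c, hc⟩ := Nat.exists_eq_add_of_le
          (Finset.single_le_sum (f := fun a : S => m a.1 (hS ▸ Ideal.subset_span a.2)) (fun _ _ => Nat.zero_le _)
            (Finset.mem_attach S ⟨y, hy⟩))
        show y • (f ^ mm • t) = 0
        rw [smul_comm, show mm = _ from hc, pow_add, mul_comm, mul_smul, hm, smul_zero]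
      | zero => exact zero_smul _ _
      | add y z _ _ hy hz => rw [add_smul, hy, hz, add_zero]
      | smul c y _ hy => rw [smul_eq_mul, mul_smul, hy, smul_zero]
    refine ⟨n + mm, (⟨f ^ mm • t, mem_killed_of_affine i F U₀ _ hkill⟩ : (killed i F).obj U), ?_⟩
    refine Subtype.ext ?_
    show res F (X.basicOpen_le f) (f ^ mm • t) =
      (killed i F).ι.app _ (resO X (X.basicOpen_le f) f ^ (n + mm) • s)
    rw [Scheme.Modules.Hom.app_smul, res_smul, ht, smul_smul]
    congr 1
    simp only [resO, map_pow, ← pow_add, add_comm n mm]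
  · have h0 : res F (X.basicOpen_le f) ((killed i F).ι.app _ t) = 0 := by
      have := congrArg ((killed i F).ι.app (X.basicOpen f)) ht
      rw [app_res, map_zero] at this
      exact this
    obtain ⟨n, hn⟩ := hF.eq_zero_of f _ h0
    refine ⟨n, Subtype.ext ?_⟩
    show (killed i F).ι.app _ (f ^ n • t) = 0
    rw [Scheme.Modules.Hom.app_smul]
    exact hn

theorem killed_ann (U : X.affineOpens) (a : Γ(X, U.1)) (ha : a ∈ i.ker.ideal U)
    (s : Γ((killed i F).mod, U.1)) : a • s = 0 := by
  refine Subtype.ext ?_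
  show (killed i F).ι.app _ (a • s) = 0
  rw [Scheme.Modules.Hom.app_smul]
  have h := (show (killed i F).obj U.1 from s).2 U le_rfl a ha
  rwa [res_self] at h

theorem push_mem_killed (H : Z.Modules) (ε : (Scheme.Modules.pushforward i).obj H ⟶ F) (V : X.Opens)
    (s : Γ((Scheme.Modules.pushforward i).obj H, V)) : ε.app V s ∈ (killed i F).obj V := by
  intro U hUV a ha
  rw [← app_res ε hUV s, ← Scheme.Modules.Hom.app_smul]
  have : a • res ((Scheme.Modules.pushforward i).obj H) hUV s = 0 := by
    refine (QCqs72.pushforward_smul H i a _).trans ?_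
    rw [show i.app U.1 a = 0 from i.ideal_ker_le U ha, zero_smul]
    rfl
  rw [this, map_zero]

theorem isQuasicoherent_pushforward_homO [LocallyOfFinitePresentation i] [Dual3.HasHomO i] [F.IsQuasicoherent] :
    ((Scheme.Modules.pushforward i).obj ((Dual3.homO i).obj F)).IsQuasicoherent := by
  let K := (killed i F).mod
  haveI : K.IsQuasicoherent := isQuasicoherent_killed i F
  have hu : IsIso (QCPull72.pullUnit i K) :=
    (QCPull72.isIso_pullUnit_iff i K).2 (killed_ann i F)
  let u := asIso (QCPull72.pullUnit i K)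
  let ε := (Dual3.homOAdj i).counit.app F
  let ρ : (Scheme.Modules.pushforward i).obj ((Dual3.homO i).obj F) ⟶ K :=
    (killed i F).lift ε (push_mem_killed i F _ ε)
  have hρ : ρ ≫ (killed i F).ι = ε := (killed i F).lift_ι ε _
  let σ := (Dual3.homOAdj i).homEquiv _ _ (u.inv ≫ (killed i F).ι)
  have hσ : (Scheme.Modules.pushforward i).map σ ≫ ε = u.inv ≫ (killed i F).ι := by
    exact ((Dual3.homOAdj i).homEquiv_counit _ _ σ).symm.trans (Equiv.symm_apply_apply _ _)
  let τ : K ⟶ _ := u.hom ≫ (Scheme.Modules.pushforward i).map σ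
  have h1 : τ ≫ ρ = 𝟙 K := by
    rw [← cancel_mono (killed i F).ι, Category.assoc, hρ, Category.assoc, hσ, Iso.hom_inv_id_assoc,
      Category.id_comp]
  have h2 : ρ ≫ τ = 𝟙 _ := by
    obtain ⟨φ, hφ⟩ := exists_map_eq (ρ ≫ τ)
    have h3 : (Scheme.Modules.pushforward i).map φ ≫ ε = ε := by
      rw [hφ, Category.assoc, ← hρ, reassoc_of% h1]
    have h4 : φ = 𝟙 _ := by
      apply ((Dual3.homOAdj i).homEquiv _ _).symm.injective
      rw [Adjunction.homEquiv_counit, Adjunction.homEquiv_counit, CategoryTheory.Functor.map_id, Category.id_comp]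
      exact h3
    rw [← hφ, h4, CategoryTheory.Functor.map_id]
  exact QC70.isQuasicoherent_of_iso ⟨τ, ρ, h1, h2⟩ inferInstance

end Groth.Agent.Props58.HomO
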