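import Groth.Agent.CAlg1.SerreNormal
import Groth.Agent.CAlg1.Serre
import Groth.Agent.EGA4Alg4.CMLoc
import Groth.Agent.Ega11.SchemeTop
import Groth.Agent.LocImm58.Ops
import Groth.Prelude.Def_Pi1

set_option autoImplicit false
universe u

open CategoryTheory TopologicalSpace AlgebraicGeometry

namespace Groth.Agent.Props58

lemma ringKrullDim_stalk_le (X : Scheme.{u}) (x : X) :
    ringKrullDim (X.presheaf.stalk x) ≤ topologicalKrullDim X := by
  rw [← PrimeSpectrum.topologicalKrullDim_eq_ringKrullDim]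
  exact (X.fromSpecStalk x).isEmbedding.isInducing.topologicalKrullDim_le

lemma isRegularLocalRing_stalk_of_normal (X : Scheme.{u}) [IsLocallyNoetherian X]
    (hN : Pi1.IsNormalScheme X) (hd : topologicalKrullDim X ≤ 1) (x : X) :
    IsRegularLocalRing (X.presheaf.stalk x) := by
  have := (hN x).1
  have := (hN x).2
  exact CAlg1.regular_of_isIntegrallyClosed_dim_le_one _ ((ringKrullDim_stalk_le X x).trans hd)

lemma isCohenMacaulayLocalRing_stalk_of_normal (X : Scheme.{u}) [IsLocallyNoetherian X]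
    (hN : Pi1.IsNormalScheme X) (hd : topologicalKrullDim X ≤ 2) (x : X) :
    LocCoh.IsCohenMacaulayLocalRing (X.presheaf.stalk x) := by
  have := (hN x).1
  have := (hN x).2
  let A := X.presheaf.stalk x
  refine { supportDim_eq_depth := ?_ }
  rw [Module.supportDim_self_eq_ringKrullDim]
  refine le_antisymm ?_ ((EGA4Alg4.depth_le_supportDim (A := A) (M := A)).trans
    (le_of_eq (Module.supportDim_self_eq_ringKrullDim A)))
  obtain ⟨n, hn⟩ : ∃ n : ℕ, ringKrullDim A = n := by
    obtain ⟨m, hm⟩ := EGA4Alg4.exists_supportDim_eq (A := A) (M := A)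
    exact ⟨m, (Module.supportDim_self_eq_ringKrullDim A).symm.trans hm⟩
  rw [hn]
  have hn2 : n ≤ 2 := by
    have := (ringKrullDim_stalk_le X x).trans hd
    rw [show ringKrullDim (X.presheaf.stalk x) = (n : WithBot ℕ∞) from hn] at this
    exact_mod_cast this
  by_cases h2 : n = 2
  · subst h2
    exact WithBot.coe_le_coe.mpr (CAlg1.two_le_depth_of_isIntegrallyClosed A (le_of_eq hn.symm))
  · have : IsRegularLocalRing A := CAlg1.regular_of_isIntegrallyClosed_dim_le_one A (by
      rw [hn]; exact_mod_cast (by omega : n ≤ 1))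
    rw [CAlg1.depth_regular A hn]
    rfl

lemma isIso_stalkMap_fromSpecStalk (X : Scheme.{u}) (y : X) (p : Spec (X.presheaf.stalk y)) :
    IsIso ((X.fromSpecStalk y).stalkMap p) := by
  obtain ⟨V, hV, hyV, -⟩ := exists_isAffineOpen_mem_and_subset (x := y) (U := (⊤ : X.Opens)) trivial
  rw [← hV.fromSpecStalk_eq_fromSpecStalk hyV]
  let := TopCat.Presheaf.algebra_section_stalk X.presheaf ⟨y, hyV⟩
  have := hV.isLocalization_stalk ⟨y, hyV⟩
  have h := LocImm58.isIso_stalkMap _ (LocImm58.isLocImmersion_SpecMap (X.presheaf.germ V y hyV)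
    (LocImm58.isLocHom_algebraMap (hV.primeIdealOf ⟨y, hyV⟩).asIdeal.primeCompl)).1 p
  show IsIso ((Spec.map (X.presheaf.germ V y hyV) ≫ hV.fromSpec).stalkMap p)
  rw [Scheme.Hom.stalkMap_comp]
  have := hV.isOpenImmersion_fromSpec
  have h' : IsIso (hV.fromSpec.stalkMap (Spec.map (X.presheaf.germ V y hyV) p)) :=
    LocImm58.isIso_stalkMap _ (LocImm58.isLocImmersion_of_isOpenImmersion hV.fromSpec).1 _
  exact @IsIso.comp_isIso _ _ _ _ _ _ _ h' h

lemma stalkSpecializes_isLocalization (X : Scheme.{u}) {x y : X} (h : x ⤳ y) :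
    ∃ (p : Ideal (X.presheaf.stalk y)) (_ : p.IsPrime),
      Nonempty (Localization.AtPrime p ≃+* X.presheaf.stalk x) := by
  obtain ⟨p, hp⟩ : x ∈ Set.range (X.fromSpecStalk y) := by
    rw [Scheme.range_fromSpecStalk]; exact h
  subst hp
  let pp : PrimeSpectrum (X.presheaf.stalk y) := p
  have := isIso_stalkMap_fromSpecStalk X y p
  exact ⟨pp.asIdeal, pp.isPrime,
    ⟨(IsLocalization.algEquiv pp.asIdeal.primeCompl (Localization.AtPrime pp.asIdeal)
      ((Spec.structureSheaf (X.presheaf.stalk y)).presheaf.stalk pp)).toRingEquiv.trans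
      (asIso ((X.fromSpecStalk y).stalkMap p)).symm.commRingCatIsoToRingEquiv⟩⟩

lemma isRegularLocalRing_stalk_iff (X : Scheme.{u}) [IsLocallyNoetherian X] :
    (∀ x : X, IsRegularLocalRing (X.presheaf.stalk x)) ↔
      ∀ x : X, IsClosed ({x} : Set X) → IsRegularLocalRing (X.presheaf.stalk x) := by
  refine ⟨fun h x _ => h x, fun h x => ?_⟩
  obtain ⟨y, hy, hyc⟩ := Ega11.SchemeTop.exists_isClosed_singleton X
    (isClosed_closure (s := ({x} : Set X))) ⟨x, subset_closure rfl⟩
  have := h y hyc
  obtain ⟨p, _, ⟨e⟩⟩ := stalkSpecializes_isLocalization X (specializes_iff_mem_closure.mpr hy)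
  have := CAlg1.regular_localization _ p
  exact IsRegularLocalRing.of_ringEquiv e

lemma isCohenMacaulayLocalRing_of_ringEquiv {A B : Type u} [CommRing A] [CommRing B]
    [IsLocalRing B] [IsNoetherianRing B] [h : LocCoh.IsCohenMacaulayLocalRing A] (e : A ≃+* B) :
    LocCoh.IsCohenMacaulayLocalRing B := by
  refine { supportDim_eq_depth := ?_ }
  rw [Module.supportDim_self_eq_ringKrullDim, ← CAlg1.depth_eq_of_ringEquiv e,
    ← h.supportDim_eq_depth, Module.supportDim_self_eq_ringKrullDim, ringKrullDim_eq_of_ringEquiv e]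

lemma isCohenMacaulayLocalRing_localization (A : Type u) [CommRing A]
    [h : LocCoh.IsCohenMacaulayLocalRing A] (p : Ideal A) [hp : p.IsPrime] :
    LocCoh.IsCohenMacaulayLocalRing (Localization.AtPrime p) := by
  have h1 := (EGA4Alg4.localization_cm_and_dim (M := A) h.supportDim_eq_depth ⟨p, hp⟩
    (by rw [Module.support_eq_zeroLocus]; intro a ha; simp [Module.mem_annihilator] at ha; have := ha 1; rw [mul_one] at this; subst this; exact zero_mem _)).1
  have : IsNoetherianRing (Localization.AtPrime p) :=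
    IsLocalization.isNoetherianRing p.primeCompl _ inferInstance
  refine { supportDim_eq_depth := ?_ }
  rw [← Module.supportDim_eq_of_equiv (CAlg1.locSelfEquiv p), ← CAlg1.depth_locSelf p]
  exact h1

lemma isCohenMacaulayLocalRing_stalk_iff (X : Scheme.{u}) [IsLocallyNoetherian X] :
    (∀ x : X, LocCoh.IsCohenMacaulayLocalRing (X.presheaf.stalk x)) ↔
      ∀ x : X, IsClosed ({x} : Set X) → LocCoh.IsCohenMacaulayLocalRing (X.presheaf.stalk x) := by
  refine ⟨fun h x _ => h x, fun h x => ?_⟩
  obtain ⟨y, hy, hyc⟩ := Ega11.SchemeTop.exists_isClosed_singleton X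
    (isClosed_closure (s := ({x} : Set X))) ⟨x, subset_closure rfl⟩
  have := h y hyc
  obtain ⟨p, _, ⟨e⟩⟩ := stalkSpecializes_isLocalization X (specializes_iff_mem_closure.mpr hy)
  have := isCohenMacaulayLocalRing_localization _ p
  exact isCohenMacaulayLocalRing_of_ringEquiv e

end Groth.Agent.Props58
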