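import Groth.Agent.Amp73.Ample

/-!
Inverse images of frames are frames; inverse image commutes with tensor powers of invertible modules.
-/

universe u

open CategoryTheory CategoryTheory.Limits AlgebraicGeometry Opposite TopologicalSpace

noncomputable section

namespace Groth.Agent.Props58.PullTensor

open Var76.LineBundle Var76.ZeroScheme

variable {X Y Z : Scheme.{u}}

theorem pullS_comp (f : X ⟶ Y) (g : Y ⟶ Z) (M : Z.Modules) (U : Z.Opens) (m : Γ(M, U)) :
    ((Scheme.Modules.pullbackComp f g).inv.app M).app ((f ≫ g) ⁻¹ᵁ U) (Amp73.pullS (f ≫ g) M U m) =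
      Amp73.pullS f ((Scheme.Modules.pullback g).obj M) (g ⁻¹ᵁ U) (Amp73.pullS g M U m) := by
  have h := unit_conjugateEquiv
    ((Scheme.Modules.pullbackPushforwardAdjunction g).comp (Scheme.Modules.pullbackPushforwardAdjunction f))
    (Scheme.Modules.pullbackPushforwardAdjunction (f ≫ g)) (Scheme.Modules.pullbackComp f g).inv M
  rw [Scheme.Modules.conjugateEquiv_pullbackComp_inv] at h
  exact (ConcreteCategory.congr_hom (congrArg (fun φ => Scheme.Modules.Hom.app φ U) h) m).symm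

theorem app_pullS_openImm (j : X ⟶ Y) [IsOpenImmersion j] (N : Y.Modules) (U : Y.Opens) (n : Γ(N, U)) :
    ((Scheme.Modules.restrictFunctorIsoPullback j).hom.app N).app (j ⁻¹ᵁ U)
        ((res N (j.image_preimage_le U) n : Γ(N, j ''ᵁ (j ⁻¹ᵁ U))) : Γ(N.restrict j, j ⁻¹ᵁ U)) =
      Amp73.pullS j N U n := by
  have h := Adjunction.unit_leftAdjointUniq_hom_app (Scheme.Modules.restrictAdjunction j)
    (Scheme.Modules.pullbackPushforwardAdjunction j) N
  exact ConcreteCategory.congr_hom (congrArg (fun φ => Scheme.Modules.Hom.app φ U) h) n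

theorem isFrame_restrict_iff (j : X ⟶ Y) [IsOpenImmersion j] (N : Y.Modules) (V : X.Opens)
    (e : Γ(N, j ''ᵁ V)) :
    IsFrame (N.restrict j) V (e : Γ(N.restrict j, V)) ↔ IsFrame N (j ''ᵁ V) e := by
  have key : ∀ (W : X.Opens) (hW : W ≤ V),
      (fun a : Γ(X, W) => a • res (N.restrict j) hW (e : Γ(N.restrict j, V))) =
        (fun a : Γ(Y, j ''ᵁ W) => a • res N (j.image_mono hW) e) ∘ (j.appIso W).inv := by
    intro W hW
    funext a
    rfl
  constructor
  · intro h W hW
    obtain ⟨W, rfl⟩ : ∃ W' : X.Opens, j ''ᵁ W' = W :=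
      ⟨j ⁻¹ᵁ W, by
        rw [Scheme.Hom.image_preimage_eq_opensRange_inf,
          inf_eq_right.2 (hW.trans (j.image_le_opensRange V))]⟩
    have hW' : W ≤ V := by
      have := j.preimage_mono hW
      rwa [j.preimage_image_eq, j.preimage_image_eq] at this
    have h2 := h W hW'
    rw [key W hW'] at h2
    exact (Function.Bijective.of_comp_iff _ (ConcreteCategory.bijective_of_isIso (j.appIso W).inv)).1 h2
  · intro h W hW
    rw [key W hW]
    exact (h _ (j.image_mono hW)).comp (ConcreteCategory.bijective_of_isIso (j.appIso W).inv)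

theorem isFrame_pullS_openImm (j : X ⟶ Y) [IsOpenImmersion j] (N : Y.Modules) {U : Y.Opens}
    (hU : U ≤ j.opensRange) (n : Γ(N, U)) :
    IsFrame ((Scheme.Modules.pullback j).obj N) (j ⁻¹ᵁ U) (Amp73.pullS j N U n) ↔ IsFrame N U n := by
  rw [← app_pullS_openImm j N U n]
  refine (Amp73.isFrame_app_iff ((Scheme.Modules.restrictFunctorIsoPullback j).hom.app N) _).trans
    ((isFrame_restrict_iff j N _ _).trans ?_)
  have e : j ''ᵁ (j ⁻¹ᵁ U) = U := by
    rw [Scheme.Hom.image_preimage_eq_opensRange_inf, inf_eq_right.2 hU]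
  refine ⟨fun h => ?_, fun h => h.res _⟩
  have h2 := h.res e.ge
  rwa [res_res, Amp73.res_self] at h2

variable (f : X ⟶ Y)

theorem isFrame_pullS_top {L : Y.Modules} {e : Γ(L, (⊤ : Y.Opens))} (he : IsFrame L ⊤ e) :
    IsFrame ((Scheme.Modules.pullback f).obj L) (f ⁻¹ᵁ ⊤) (Amp73.pullS f L ⊤ e) := by
  have hv : val L (EGA73.unitHom L e) ⊤ = e := (one_smul Γ(Y, ⊤) _).trans (Amp73.res_self L e)
  have h : IsFrame L ⊤ (val L (EGA73.unitHom L e) ⊤) := by rwa [hv]
  have h2 := (Amp73.isFrame_iff_le_genLocus (Amp73.pullHom f (EGA73.unitHom L e)) _).2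
    ((f.preimage_mono ((Amp73.isFrame_iff_le_genLocus _ _).1 h)).trans (Amp73.le_genLocus_map f _))
  rwa [Amp73.val_pullHom, hv] at h2

/-- The inverse image of a frame is a frame. -/
theorem isFrame_pullS {L : Y.Modules} {U : Y.Opens} {e : Γ(L, U)} (he : IsFrame L U e) :
    IsFrame ((Scheme.Modules.pullback f).obj L) (f ⁻¹ᵁ U) (Amp73.pullS f L U e) := by
  have hU' : U ≤ U.ι.opensRange := U.opensRange_ι.ge
  have hfU : f ⁻¹ᵁ U ≤ (f ⁻¹ᵁ U).ι.opensRange := (f ⁻¹ᵁ U).opensRange_ι.ge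
  have htop : U.ι ⁻¹ᵁ U = ⊤ := U.ι_preimage_self
  have h1 := (isFrame_pullS_openImm U.ι L hU' e).2 he
  have h1' : ∀ (W : (U : Scheme.{u}).Opens) (m : Γ((Scheme.Modules.pullback U.ι).obj L, W)), W = ⊤ →
      IsFrame _ W m → IsFrame _ ((f ∣_ U) ⁻¹ᵁ W) (Amp73.pullS (f ∣_ U) _ W m) := by
    rintro W m rfl hm
    exact isFrame_pullS_top (f ∣_ U) hm
  have h2 := h1' _ _ htop h1
  rw [← pullS_comp] at h2
  have key : ∀ (a b : ((f ⁻¹ᵁ U : X.Opens) : Scheme.{u}) ⟶ Y), a = b →
      IsFrame _ (a ⁻¹ᵁ U) (Amp73.pullS a L U e) → IsFrame _ (b ⁻¹ᵁ U) (Amp73.pullS b L U e) := by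
    rintro a b rfl h
    exact h
  have h3 := key _ _ (morphismRestrict_ι f U) ((Amp73.isFrame_app_iff _ _).1 h2)
  have h4 := (Amp73.isFrame_app_iff ((Scheme.Modules.pullbackComp (f ⁻¹ᵁ U).ι f).inv.app L) _).2 h3
  rw [pullS_comp] at h4
  exact (isFrame_pullS_openImm (f ⁻¹ᵁ U).ι _ hfU _).1 h4

/-- A morphism carrying frames to frames is an isomorphism. -/
theorem isIso_of_frames {L M : X.Modules} (φ : L ⟶ M)
    (h : ∀ x : X, ∃ (U : X.Opens) (e : Γ(L, U)), x ∈ U ∧ IsFrame L U e ∧ IsFrame M U (φ.app U e)) : IsIso φ := by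
  choose U e hx he hφ using h
  have hloc : ∀ (x : X) (V : X.Opens), V ≤ U x → Function.Bijective (φ.app V) := by
    intro x V hV
    have e1 : (fun a : Γ(X, V) => a • res M hV (φ.app (U x) (e x))) =
        φ.app V ∘ fun a : Γ(X, V) => a • res L hV (e x) := by
      funext a
      simp only [Function.comp_apply, Scheme.Modules.Hom.app_smul, Mero90.app_res]
    have h2 := hφ x V hV
    rw [e1] at h2
    exact (Function.Bijective.of_comp_iff _ (he x V hV)).1 h2
  rw [Scheme.Modules.Hom.isIso_iff_isIso_app]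
  intro V
  refine (ConcreteCategory.isIso_iff_bijective _).2 ⟨fun a b hab => ?_, fun m => ?_⟩
  · refine eq_of_locally L _ _ fun x hxV => ⟨V ⊓ U x, inf_le_left, ⟨hxV, hx x⟩, ?_⟩
    refine (hloc x _ inf_le_right).1 ?_
    rw [Mero90.app_res, Mero90.app_res, hab]
  · choose a ha using fun x : X => (hloc x (V ⊓ U x) inf_le_right).2 (res M inf_le_left m)
    have compat : TopCat.Presheaf.IsCompatible L.presheaf (fun x : X => V ⊓ U x) a := by
      intro x y
      refine (hloc x _ (inf_le_left.trans inf_le_right)).1 ?_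
      show φ.app _ (res L inf_le_left (a x)) = φ.app _ (res L inf_le_right (a y))
      rw [Mero90.app_res, Mero90.app_res, ha, ha, res_res, res_res]
    obtain ⟨b, hb, -⟩ := TopCat.Sheaf.existsUnique_gluing' ⟨L.presheaf, L.isSheaf⟩ (fun x : X => V ⊓ U x) V
      (fun x => homOfLE inf_le_left) (fun y hy => Opens.mem_iSup.2 ⟨y, hy, hx y⟩) a compat
    refine ⟨b, eq_of_locally M _ _ fun x hxV => ⟨V ⊓ U x, inf_le_left, ⟨hxV, hx x⟩, ?_⟩⟩
    rw [← Mero90.app_res, ← ha x]
    exact congrArg _ (hb x)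

/-- The pairing `L × M → f_* (f^* L ⊗ f^* M)`. -/
def pullPairing (L M : Y.Modules) : Mero90.Pairing L M ((Scheme.Modules.pushforward f).obj
    (CohB1.tensorMod ((Scheme.Modules.pullback f).obj L) ((Scheme.Modules.pullback f).obj M))) where
  b U l m := Amp73.tm _ _ (Amp73.pullS f L U l) (Amp73.pullS f M U m)
  add_left U l l' m := by
    have : Amp73.pullS f L U (l + l') = Amp73.pullS f L U l + Amp73.pullS f L U l' :=
      map_add (((Scheme.Modules.pullbackPushforwardAdjunction f).unit.app L).app U).hom l l'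
    exact (congrArg (fun q => Amp73.tm _ _ q _) this).trans (Amp73.tm_add_left _ _ _)
  add_right U l m m' := by
    have : Amp73.pullS f M U (m + m') = Amp73.pullS f M U m + Amp73.pullS f M U m' :=
      map_add (((Scheme.Modules.pullbackPushforwardAdjunction f).unit.app M).app U).hom m m'
    refine (congrArg (fun q => Amp73.tm _ _ _ q) this).trans ?_
    exact (congrArg _ (Mod48.tp_add_right (O := X.sheaf) (M := CohB1.toPMod _) (N := CohB1.toPMod _)
      (X := op (f ⁻¹ᵁ U)) _ _ _)).trans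
        (map_add ((Mod48.shfU (O := X.sheaf) (CohB1.tensorPre _ _)).app (op (f ⁻¹ᵁ U))).hom _ _)
  smul_left U r l m := by
    exact (congrArg (fun q => Amp73.tm _ _ q _) (Amp73.pullS_smul f L U r l)).trans (Amp73.tm_smul_left _ _ _)
  smul_right U r l m := by
    exact (congrArg (fun q => Amp73.tm _ _ _ q) (Amp73.pullS_smul f M U r m)).trans (Amp73.tm_smul_right _ _ _)
  nat U V h l m := by
    refine Eq.trans ?_ (Amp73.res_tm (f.preimage_mono h) _ _).symm
    rw [Amp73.res_pullS, Amp73.res_pullS]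

/-- The comparison `f^*(L ⊗ M) → f^* L ⊗ f^* M`. -/
def pullTensHom (L M : Y.Modules) : (Scheme.Modules.pullback f).obj (CohB1.tensorMod L M) ⟶
    CohB1.tensorMod ((Scheme.Modules.pullback f).obj L) ((Scheme.Modules.pullback f).obj M) :=
  ((Scheme.Modules.pullbackPushforwardAdjunction f).homEquiv _ _).symm (pullPairing f L M).lift

theorem pullTensHom_pullS (L M : Y.Modules) (U : Y.Opens) (l : Γ(L, U)) (m : Γ(M, U)) :
    (pullTensHom f L M).app (f ⁻¹ᵁ U) (Amp73.pullS f _ U (Amp73.tm L M l m)) =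
      Amp73.tm _ _ (Amp73.pullS f L U l) (Amp73.pullS f M U m) := by
  have h : (Scheme.Modules.pullbackPushforwardAdjunction f).homEquiv _ _ (pullTensHom f L M) =
      (pullPairing f L M).lift := Equiv.apply_symm_apply _ _
  rw [Adjunction.homEquiv_unit] at h
  exact (ConcreteCategory.congr_hom (congrArg (fun g => Scheme.Modules.Hom.app g U) h) (Amp73.tm L M l m)).trans
    ((pullPairing f L M).lift_tmul U l m)

theorem nonempty_pullTensIso {L M : Y.Modules} (hL : PicF.IsInvertible L) (hM : PicF.IsInvertible M) :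
    Nonempty ((Scheme.Modules.pullback f).obj (CohB1.tensorMod L M) ≅
      CohB1.tensorMod ((Scheme.Modules.pullback f).obj L) ((Scheme.Modules.pullback f).obj M)) := by
  have : IsIso (pullTensHom f L M) := by
    refine isIso_of_frames _ fun x => ?_
    obtain ⟨U, hxU, e, he⟩ := Mero90.exists_frame' hL (f x)
    obtain ⟨V, hxV, e', he'⟩ := Mero90.exists_frame' hM (f x)
    have h1 := he.res (inf_le_left : U ⊓ V ≤ U)
    have h2 := he'.res (inf_le_right : U ⊓ V ≤ V)
    refine ⟨f ⁻¹ᵁ (U ⊓ V), _, ⟨hxU, hxV⟩, isFrame_pullS f (Amp73.isFrame_tm h1 h2), ?_⟩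
    rw [pullTensHom_pullS]
    exact Amp73.isFrame_tm (isFrame_pullS f h1) (isFrame_pullS f h2)
  exact ⟨asIso (pullTensHom f L M)⟩

theorem nonempty_pullPowIso {L : Y.Modules} (hL : PicF.IsInvertible L) : ∀ n : ℕ,
    Nonempty ((Scheme.Modules.pullback f).obj (CohB1.tensorPow L n) ≅
      CohB1.tensorPow ((Scheme.Modules.pullback f).obj L) n)
  | 0 => ⟨PicLoc.pullbackStructureIso f⟩
  | n + 1 => by
    obtain ⟨e⟩ := nonempty_pullTensIso f (EGA73.isInvertible_tensorPow hL n) hL
    obtain ⟨i⟩ := nonempty_pullPowIso hL n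
    exact ⟨e ≪≫ EGA73.tensIso i (Iso.refl _)⟩

theorem preimage_mem_genSet {L : Y.Modules} (hL : PicF.IsInvertible L) {G : Y.Opens}
    (hG : G ∈ Amp73.GenSet L) : f ⁻¹ᵁ G ∈ Amp73.GenSet ((Scheme.Modules.pullback f).obj L) := by
  obtain ⟨n, s, rfl⟩ := hG
  obtain ⟨i⟩ := nonempty_pullPowIso f hL (n + 1)
  exact ⟨n, Amp73.pullHom f s ≫ i.hom,
    (Amp73.genLocus_comp_iso _ _).trans (Amp73.genLocus_pullHom f (EGA73.isInvertible_tensorPow hL _) s)⟩

end Groth.Agent.Props58.PullTensor
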