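import Groth.Agent.SchBasics.Local
import Mathlib.AlgebraicGeometry.Limits
import Mathlib.AlgebraicGeometry.Morphisms.QuasiSeparated
import Groth.Prelude.Def_Pi1

set_option autoImplicit false
universe u

open CategoryTheory TopologicalSpace AlgebraicGeometry

namespace Groth.Agent.Props58

/-- Components are open if they are pairwise disjoint and locally finitely many. -/
lemma isOpen_irreducibleComponent {X : Type*} [TopologicalSpace X]
    (hu : ∀ x : X, ∀ Z ∈ irreducibleComponents X, ∀ Z' ∈ irreducibleComponents X,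
      x ∈ Z → x ∈ Z' → Z = Z')
    (hfin : ∀ x : X, ∃ U : Opens X, x ∈ U ∧ (irreducibleComponents U).Finite)
    {Z : Set X} (hZ : Z ∈ irreducibleComponents X) : IsOpen Z := by
  refine isOpen_iff_forall_mem_open.mpr fun x hx => ?_
  obtain ⟨U, hxU, hU⟩ := hfin x
  let C : Set U := ⋃ W ∈ {W ∈ irreducibleComponents U | (⟨x, hxU⟩ : U) ∉ W}, W
  have hC : IsClosed C := (hU.subset (Set.sep_subset _ _)).isClosed_biUnion
    fun W hW => isClosed_of_mem_irreducibleComponents W hW.1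
  refine ⟨Subtype.val '' Cᶜ, ?_, U.2.isOpenMap_subtype_val _ hC.isOpen_compl,
    ⟨⟨x, hxU⟩, fun h => ?_, rfl⟩⟩
  · rintro _ ⟨y, hy, rfl⟩
    by_contra hyZ
    obtain ⟨Z', hZ', hyZ'⟩ : ∃ Z' ∈ irreducibleComponents X, (y : X) ∈ Z' :=
      ⟨_, irreducibleComponent_mem_irreducibleComponents _, mem_irreducibleComponent⟩
    refine hy (Set.mem_iUnion₂.mpr ⟨Subtype.val ⁻¹' Z',
      ⟨preimage_mem_irreducibleComponents hZ' U.2.isOpenEmbedding_subtypeVal
        ⟨y, hyZ', ⟨y, rfl⟩⟩, fun hxZ' => ?_⟩, hyZ'⟩)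
    exact hyZ (hu x Z hZ Z' hZ' hx hxZ' ▸ hyZ')
  · obtain ⟨W, hW, hxW⟩ := Set.mem_iUnion₂.mp h
    exact hW.2 hxW

lemma eq_of_isDomain_stalk {X : Scheme.{u}} (x : X) (hx : IsDomain (X.presheaf.stalk x))
    (Z : Set X) (hZ : Z ∈ irreducibleComponents X) (Z' : Set X)
    (hZ' : Z' ∈ irreducibleComponents X) (h : x ∈ Z) (h' : x ∈ Z') : Z = Z' :=
  (SchBasics.nilradical_stalk_isPrime_iff x).mp
    (by rw [nilradical_eq_zero]; exact Ideal.isPrime_bot) Z hZ Z' hZ' h h'

lemma irreducibleSpace_iff_affineOpens (X : Scheme.{u}) :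
    IrreducibleSpace X ↔ Nonempty X ∧
      ∀ U : X.Opens, IsAffineOpen U → (U : Set X).Nonempty → IsIrreducible (U : Set X) := by
  refine ⟨fun h => ⟨inferInstance, fun U _ hne => ⟨hne,
    (PreirreducibleSpace.isPreirreducible_univ (X := X)).open_subset U.2 (Set.subset_univ _)⟩⟩,
    fun ⟨hne, h⟩ => ?_⟩
  have : PreirreducibleSpace X := by
    refine ⟨fun A B hA hB ⟨a, _, ha⟩ ⟨b, _, hb⟩ => ?_⟩
    obtain ⟨U, hU, haU, hUA⟩ := exists_isAffineOpen_mem_and_subset (U := ⟨A, hA⟩) ha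
    obtain ⟨V, hV, hbV, hVB⟩ := exists_isAffineOpen_mem_and_subset (U := ⟨B, hB⟩) hb
    suffices ((U : Set X) ∩ V).Nonempty from
      this.mono (fun y hy => ⟨trivial, hUA hy.1, hVB hy.2⟩)
    by_contra hd
    rw [Set.not_nonempty_iff_eq_empty, ← Set.disjoint_iff_inter_eq_empty] at hd
    have := (h (U ⊔ V) (hU.sup_of_disjoint hV (TopologicalSpace.Opens.coe_disjoint.mp hd))
      ⟨a, .inl haU⟩).2 U V U.2 V.2 ⟨a, .inl haU, haU⟩ ⟨b, .inr hbV, hbV⟩
    obtain ⟨c, -, hc⟩ := this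
    exact Set.disjoint_left.mp hd hc.1 hc.2
  exact ⟨hne⟩

lemma qcqs_induction (X : Scheme.{u}) [QuasiSeparatedSpace X]
    (P : X.Opens → Prop) (ha : ∀ U : X.Opens, IsAffineOpen U → P U)
    (hb : ∀ (U : X.Opens) (n : ℕ) (V : Fin n → X.Opens), IsCompact (U : Set X) →
      (∀ i, IsAffineOpen (V i)) → ⨆ i, V i = U → (∀ i j, P (V i ⊓ V j)) → P U)
    (U : X.Opens) (hU : IsCompact (U : Set X)) : P U := by
  -- quasi-compact opens inside an affine
  have step : ∀ (A W : X.Opens), IsAffineOpen A → W ≤ A → IsCompact (W : Set X) → P W := by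
    intro A W hA hWA hW
    choose g hgW hgx using fun y : W => hA.exists_basicOpen_le y (hWA y.2)
    obtain ⟨t, ht⟩ := hW.elim_finite_subcover (fun y : W => (X.basicOpen (g y) : Set X))
      (fun y => (X.basicOpen (g y)).2) (fun y hy => Set.mem_iUnion.mpr ⟨⟨y, hy⟩, hgx ⟨y, hy⟩⟩)
    refine hb W t.card (fun i => X.basicOpen (g (t.equivFin.symm i).1)) hW
      (fun i => hA.basicOpen _) ?_ fun i j => ha _ ?_
    · refine le_antisymm (iSup_le fun i => hgW _) fun y hy => ?_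
      obtain ⟨z, hz, hyz⟩ := Set.mem_iUnion₂.mp (ht hy)
      exact TopologicalSpace.Opens.mem_iSup.mpr
        ⟨t.equivFin ⟨z, hz⟩, by simpa using hyz⟩
    · rw [← Scheme.basicOpen_mul]
      exact hA.basicOpen _
  obtain ⟨s, hs, hsU⟩ := isCompact_iff_finite_and_eq_biUnion_affineOpens.mp hU
  have := hs.fintype
  refine hb U (Fintype.card s) (fun i => ((Fintype.equivFin s).symm i).1.1) hU
    (fun i => ((Fintype.equivFin s).symm i).1.2) ?_ fun i j => ?_
  · refine TopologicalSpace.Opens.ext (Set.ext fun y => ?_)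
    have hmem : y ∈ U ↔ ∃ A : X.affineOpens, A ∈ s ∧ y ∈ A.1 := by
      show y ∈ (U : Set X) ↔ _
      rw [hsU]; simp
    simp only [TopologicalSpace.Opens.coe_iSup, Set.mem_iUnion, SetLike.mem_coe, hmem]
    exact ⟨fun ⟨i, hi⟩ => ⟨_, ((Fintype.equivFin s).symm i).2, hi⟩,
      fun ⟨A, hA, hy⟩ => ⟨Fintype.equivFin s ⟨A, hA⟩, by simpa using hy⟩⟩
  · exact step _ _ ((Fintype.equivFin s).symm i).1.2 inf_le_left
      (QuasiSeparatedSpace.inter_isCompact _ _
        ((Fintype.equivFin s).symm i).1.1.2 ((Fintype.equivFin s).symm i).1.2.isCompact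
        ((Fintype.equivFin s).symm j).1.1.2 ((Fintype.equivFin s).symm j).1.2.isCompact)

lemma isNormalScheme_iff (X : Scheme.{u}) [IsIntegral X] :
    Pi1.IsNormalScheme X ↔
      ∀ (U : X.Opens) [Nonempty U], IsAffineOpen U → IsIntegrallyClosed Γ(X, U) := by
  constructor
  · intro h U _ hU
    refine IsIntegrallyClosed.of_localization_maximal fun p _ hp => ?_
    obtain ⟨x, hxU, hx⟩ : ∃ (x : X) (hxU : x ∈ U), (hU.primeIdealOf ⟨x, hxU⟩).asIdeal = p := by
      refine ⟨hU.fromSpec ⟨p, inferInstance⟩, hU.range_fromSpec.le ⟨_, rfl⟩, ?_⟩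
      have := hU.fromSpec_primeIdealOf ⟨_, hU.range_fromSpec.le ⟨⟨p, inferInstance⟩, rfl⟩⟩
      exact congrArg PrimeSpectrum.asIdeal (hU.fromSpec.isOpenEmbedding.injective this)
    subst hx
    let := TopCat.Presheaf.algebra_section_stalk X.presheaf ⟨x, hxU⟩
    have := hU.isLocalization_stalk ⟨x, hxU⟩
    have := (h x).2
    exact IsIntegrallyClosed.of_equiv (IsLocalization.algEquiv
      (hU.primeIdealOf ⟨x, hxU⟩).asIdeal.primeCompl (X.presheaf.stalk x) (Localization.AtPrime _)).toRingEquiv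
  · intro h x
    obtain ⟨U, hU, hxU, -⟩ := exists_isAffineOpen_mem_and_subset (x := x) (U := (⊤ : X.Opens)) trivial
    have : Nonempty U := ⟨⟨x, hxU⟩⟩
    have := h U hU
    let := TopCat.Presheaf.algebra_section_stalk X.presheaf ⟨x, hxU⟩
    have := hU.isLocalization_stalk ⟨x, hxU⟩
    exact ⟨inferInstance, isIntegrallyClosed_of_isLocalization (X.presheaf.stalk x)
      (hU.primeIdealOf ⟨x, hxU⟩).asIdeal.primeCompl (Ideal.primeCompl_le_nonZeroDivisors _)⟩

end Groth.Agent.Props58
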