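import Groth.Agent.CAlg5.NFinite
import Groth.Agent.S9398
import Groth.Agent.S9399
import Groth.Agent.S9400
import Groth.Agent.SchBasics.Reduced
import Mathlib.AlgebraicGeometry.Noetherian
import Mathlib.AlgebraicGeometry.FunctionField
import Mathlib.RingTheory.Localization.Finiteness

set_option autoImplicit false
universe u

open CategoryTheory TopologicalSpace AlgebraicGeometry

namespace Groth.Agent.Props58

lemma isLocalization_bot_of_bijective {R S : Type u} [CommRing R] [CommRing S] [Algebra R S]
    (h : Function.Bijective (algebraMap R S)) : IsLocalization (⊥ : Submonoid R) S where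
  map_units := fun ⟨y, hy⟩ => by
    rw [Submonoid.mem_bot] at hy; subst hy; simp
  surj s := by
    obtain ⟨r, rfl⟩ := h.2 s
    exact ⟨(r, 1), by simp⟩
  exists_of_eq e := ⟨1, by simp [h.1 e]⟩

lemma isUniversallyJapanese_of_ringEquiv {R S : Type u} [CommRing R] [CommRing S] (e : R ≃+* S)
    (h : CAlg.IsUniversallyJapanese R) : CAlg.IsUniversallyJapanese S := by
  intro T _ _ _ hT
  let : Algebra R T := ((algebraMap S T).comp e.toRingHom).toAlgebra
  refine h T ?_
  exact RingHom.finiteType_algebraMap.mp (RingHom.FiniteType.comp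
    (RingHom.finiteType_algebraMap.mpr hT) (RingHom.FiniteType.of_surjective e.toRingHom e.surjective))

lemma isN2_of_ringEquiv {R S : Type u} [CommRing R] [IsDomain R] [CommRing S] [IsDomain S]
    (e : R ≃+* S) (h : CAlg.IsN2 R) : CAlg.IsN2 S := by
  let := e.toRingHom.toAlgebra
  have := isLocalization_bot_of_bijective (R := R) (S := S) e.bijective
  exact CAlg5.isN2_localization ⊥ S h

lemma isNagata_localization {R : Type u} [CommRing R] (M : Submonoid R) (S : Type u) [CommRing S]
    [Algebra R S] [IsLocalization M S] (h : CAlg.IsNagata R) : CAlg.IsNagata S := by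
  have := h.1
  refine ⟨IsLocalization.isNoetherianRing M S inferInstance, fun P _ => ?_⟩
  let p : Ideal R := P.comap (algebraMap R S)
  have : IsLocalization (M.map (Ideal.Quotient.mk p)) (S ⧸ P) :=
    IsLocalization.of_surjective M S (Ideal.Quotient.mk p) Ideal.Quotient.mk_surjective
      (Ideal.Quotient.mk P) Ideal.Quotient.mk_surjective rfl (by
        rw [Ideal.mk_ker, Ideal.mk_ker]
        exact le_of_eq (IsLocalization.map_comap M S P).symm)
  exact CAlg5.isN2_localization (M.map (Ideal.Quotient.mk p)) (S ⧸ P) (h.2 p)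

variable {X : Scheme.{u}}

lemma isNagata_affineOpen {ι : Type*} (U : ι → X.affineOpens) (hU : (⨆ i, (U i).1) = ⊤)
    (hN : ∀ i, CAlg.IsNagata Γ(X, (U i).1)) (V : X.affineOpens) : CAlg.IsNagata Γ(X, V.1) := by
  refine of_affine_open_cover (P := fun V => CAlg.IsNagata Γ(X, V.1)) U hU V (fun W f hW => ?_)
    (fun W s hs hW => ?_) hN
  · have := W.2.isLocalization_basicOpen f
    exact isNagata_localization (Submonoid.powers f) Γ(X, X.basicOpen f) hW
  · refine Groth.Agent.S9400.result Γ(X, W.1) (fun i : s => i.1) (by simpa using hs) fun i => ?_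
    have := W.2.isLocalization_basicOpen i.1
    let e := IsLocalization.algEquiv (Submonoid.powers i.1) Γ(X, X.basicOpen i.1)
      (Localization.Away i.1)
    let : Algebra Γ(X, X.basicOpen i.1) (Localization.Away i.1) := e.toRingEquiv.toRingHom.toAlgebra
    have := isLocalization_bot_of_bijective (R := Γ(X, X.basicOpen i.1))
      (S := Localization.Away i.1) e.bijective
    exact @isNagata_localization Γ(X, X.basicOpen i.1) _ ⊥ (Localization.Away i.1) _ _ this (hW i)

lemma isUniversallyJapanese_affineOpen {ι : Type*} (U : ι → X.affineOpens) (hU : (⨆ i, (U i).1) = ⊤)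
    (hJ : ∀ i, CAlg.IsUniversallyJapanese Γ(X, (U i).1)) (V : X.affineOpens) :
    CAlg.IsUniversallyJapanese Γ(X, V.1) := by
  refine of_affine_open_cover (P := fun V => CAlg.IsUniversallyJapanese Γ(X, V.1)) U hU V
    (fun W f hW => ?_) (fun W s hs hW => ?_) hJ
  · have := W.2.isLocalization_basicOpen f
    have : Algebra.EssFiniteType Γ(X, W.1) Γ(X, X.basicOpen f) :=
      Algebra.EssFiniteType.of_isLocalization _ (Submonoid.powers f)
    exact Groth.Agent.S9398.result Γ(X, W.1) hW Γ(X, X.basicOpen f)
  · refine Groth.Agent.S9399.result Γ(X, W.1) (fun i : s => i.1) (by simpa using hs) fun i => ?_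
    have := W.2.isLocalization_basicOpen i.1
    let e := IsLocalization.algEquiv (Submonoid.powers i.1) Γ(X, X.basicOpen i.1)
      (Localization.Away i.1)
    exact isUniversallyJapanese_of_ringEquiv e.toRingEquiv (hW i)

lemma isN2_affineOpen [IsIntegral X] {ι : Type*} (U : ι → X.affineOpens) (hU : (⨆ i, (U i).1) = ⊤)
    (hJ : ∀ i, ∀ [Nonempty (U i).1], CAlg.IsN2 Γ(X, (U i).1)) (V : X.affineOpens) [Nonempty V.1] :
    CAlg.IsN2 Γ(X, V.1) := by
  suffices ∀ [Nonempty V.1], CAlg.IsN2 Γ(X, V.1) from this
  refine of_affine_open_cover (P := fun V => ∀ [Nonempty V.1], CAlg.IsN2 Γ(X, V.1)) U hU V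
    (fun W f hW hne => ?_) (fun W s hs hW hne => ?_) hJ
  · have : Nonempty W.1 := ⟨⟨_, X.basicOpen_le f hne.some.2⟩⟩
    have : Nonempty (X.basicOpen f : X.Opens) := hne
    have := W.2.isLocalization_basicOpen f
    exact CAlg5.isN2_localization (Submonoid.powers f) Γ(X, X.basicOpen f) hW
  · refine CAlg5.isN2_of_cover (fun i : s => i.1) (by simpa using hs) fun i hi => ?_
    have hne' : Nonempty (X.basicOpen i.1 : X.Opens) := by
      by_contra hc
      refine hi ((basicOpen_eq_bot_iff i.1).mp (eq_bot_iff.mpr fun x hx => hc ⟨⟨x, hx⟩⟩))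
    have : Nonempty (X.affineBasicOpen i.1).1 := hne'
    exact ⟨Γ(X, X.basicOpen i.1), inferInstance, inferInstance, inferInstance,
      W.2.isLocalization_basicOpen i.1, hW i⟩

lemma isNagata_iff_closedSubschemes [IsLocallyNoetherian X] :
    (∀ U : X.Opens, IsAffineOpen U → CAlg.IsNagata Γ(X, U)) ↔
      ∀ (Z : Scheme.{u}) (i : Z ⟶ X) [IsClosedImmersion i] [IsIntegral Z]
        (V : Z.Opens) [Nonempty V], IsAffineOpen V → CAlg.IsN2 Γ(Z, V) := by
  constructor
  · intro h Z i _ _ V _ hV
    let U : X.affineOpens → Z.affineOpens := fun W => ⟨i ⁻¹ᵁ W.1, W.2.preimage i⟩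
    refine isN2_affineOpen U ?_ (fun W hne => ?_) ⟨V, hV⟩
    · refine top_le_iff.mp fun z _ => ?_
      obtain ⟨W, hW, hzW, -⟩ :=
        exists_isAffineOpen_mem_and_subset (x := i z) (U := (⊤ : X.Opens)) trivial
      exact Opens.mem_iSup.mpr ⟨⟨W, hW⟩, hzW⟩
    have : Nonempty (i ⁻¹ᵁ W.1 : Z.Opens) := hne
    have hsurj : Function.Surjective (i.app W.1).hom := i.app_surjective W.1 W.2
    have := RingHom.ker_isPrime (i.app W.1).hom
    exact isN2_of_ringEquiv (RingHom.quotientKerEquivOfSurjective hsurj) ((h W.1 W.2).2 _)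
  · intro h U hU
    refine ⟨IsLocallyNoetherian.component_noetherian ⟨U, hU⟩, fun p hp => ?_⟩
    let x : X := hU.fromSpec ⟨p, hp⟩
    let C : Closeds X := ⟨closure {x}, isClosed_closure⟩
    let I := Scheme.IdealSheafData.vanishingIdeal C
    have := SchBasics.isReduced_vanishingIdeal_subscheme C
    have hrange := SchBasics.range_vanishingIdeal_subschemeι C
    have hirr : IrreducibleSpace I.subscheme := by
      have hir : IrreducibleSpace (Set.range I.subschemeι) :=
        Subtype.irreducibleSpace (by rw [hrange]; exact isIrreducible_singleton.closure)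
      have h1 : IsIrreducible (Set.univ : Set I.subscheme) := by
        let e := I.subschemeι.isEmbedding.toHomeomorph
        rw [← Set.range_eq_univ.mpr e.symm.surjective, ← Set.image_univ]
        exact (IrreducibleSpace.isIrreducible_univ _).image _ e.symm.continuous.continuousOn
      exact { toPreirreducibleSpace := ⟨h1.2⟩
              toNonempty := ⟨h1.1.some⟩ }
    have : IsIntegral I.subscheme :=
      (isIntegral_iff_irreducibleSpace_and_isReduced _).mpr ⟨hirr, inferInstance⟩
    have hxU : x ∈ U := hU.range_fromSpec.le ⟨_, rfl⟩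
    have : Nonempty (I.subschemeι ⁻¹ᵁ U : I.subscheme.Opens) := by
      obtain ⟨z, hz⟩ : x ∈ Set.range I.subschemeι := hrange ▸ subset_closure rfl
      exact ⟨⟨z, show I.subschemeι z ∈ U from hz ▸ hxU⟩⟩
    have hsurj : Function.Surjective (I.subschemeι.app U).hom :=
      I.subschemeι.app_surjective U hU
    have hker : RingHom.ker (I.subschemeι.app U).hom = p := by
      rw [SchBasics.ker_app_eq_vanishingIdeal I.subschemeι ⟨U, hU⟩,
        Scheme.IdealSheafData.vanishingIdeal_ideal]
      have hpre : hU.fromSpec ⁻¹' closure (Set.range I.subschemeι) =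
          closure ({(⟨p, hp⟩ : PrimeSpectrum Γ(X, U))} : Set (PrimeSpectrum Γ(X, U))) := by
        rw [hrange]
        show hU.fromSpec ⁻¹' closure (closure {x}) = _
        rw [closure_closure, hU.fromSpec.isOpenEmbedding.isOpenMap.preimage_closure_eq_closure_preimage
          hU.fromSpec.continuous]
        congr 1
        ext q
        exact ⟨fun e => hU.fromSpec.isOpenEmbedding.injective e, fun e => congrArg hU.fromSpec e⟩
      refine (congrArg PrimeSpectrum.vanishingIdeal hpre).trans ?_
      rw [PrimeSpectrum.vanishingIdeal_closure, PrimeSpectrum.vanishingIdeal_singleton]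
    exact isN2_of_ringEquiv
      ((RingHom.quotientKerEquivOfSurjective hsurj).symm.trans (Ideal.quotEquivOfEq hker))
      (h _ I.subschemeι (I.subschemeι ⁻¹ᵁ U) (hU.preimage _))

end Groth.Agent.Props58
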