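import Groth.Agent.Hensel20.StageFibre
import Groth.Agent.Brnch26.Emb
import Groth.Agent.Brnch26.Local
import Groth.Agent.Brnch26.FlatLift
import Groth.Agent.Henz21.FaithfullyFlat
import Mathlib.AlgebraicGeometry.Noetherian
import Mathlib.RingTheory.Ideal.KrullsHeightTheorem

/-!
Geometrically unibranch Noetherian schemes and connectedness of punctured strictly henselian spectra.
-/

set_option autoImplicit false

universe u

open IsLocalRing TensorProduct CategoryTheory AlgebraicGeometry

noncomputable section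

namespace Groth.Agent.Props58.GeomUnibranch

theorem subsingleton_minimalPrimes_iff {A : Type u} [CommRing A] [IsLocalRing A] (S : Type u) [CommRing S]
    [IsLocalRing S] [Algebra A S] [IsLocalHom (algebraMap A S)] [Hensel.IsStrictHenselization A S] :
    CAlg2.IsGeomUnibranch A ↔ Subsingleton (minimalPrimes S) := by
  rw [← Brnch26.isGeomUnibranch_iff, ← Brnch26.card_minimalPrimes_of_isStrictHenselization (A := A) S,
    Brnch26.card_eq_one_iff]
  obtain ⟨P, hP, -⟩ := Ideal.exists_minimalPrimes_le (I := (⊥ : Ideal S)) (J := maximalIdeal S) bot_le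
  exact ⟨fun h => h.1, fun h => ⟨h, ⟨⟨P, hP⟩⟩⟩⟩

section lift

variable {A K : Type u} [CommRing A] [Field K] [Algebra A K]

theorem exists_residue_hom {L : Type u} [Field L] [IsSepClosed L] [Algebra A L] (q : Ideal (Henz21.H A K))
    [q.IsPrime] (h : RingHom.ker (algebraMap A L) = q.comap (algebraMap A (Henz21.H A K))) :
    ∃ θ : Henz21.H A K →ₐ[A] L, RingHom.ker θ = q := by
  let B := Henz21.H A K
  let p : Ideal A := q.comap (algebraMap A B)
  have : p.IsPrime := Ideal.comap_isPrime _ _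
  let j : p.ResidueField →ₐ[A] q.ResidueField := Ideal.ResidueField.mapₐ p q (Algebra.ofId A B) rfl
  let jL : p.ResidueField →ₐ[A] L := Ideal.ResidueField.liftₐ p (Algebra.ofId A L) h.ge
    (fun a ha => isUnit_iff_ne_zero.2 fun ha' => ha (h.le ha'))
  let π : p.ResidueField ⊗[A] B →ₐ[A] q.ResidueField :=
    Algebra.TensorProduct.lift j (IsScalarTower.toAlgHom A B q.ResidueField) fun _ _ => Commute.all _ _
  let M : Ideal (p.ResidueField ⊗[A] B) := RingHom.ker π
  have hMp : M.IsPrime := RingHom.ker_isPrime _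
  have : Algebra.IsIntegral p.ResidueField (p.ResidueField ⊗[A] B) := ⟨fun y => by
    obtain ⟨T, hy, _, _⟩ := Hensel20.exists_unramified_subalgebra p y
    exact (Algebra.IsIntegral.isIntegral (R := p.ResidueField) (⟨y, hy⟩ : T)).map T.val⟩
  have : M.IsMaximal := Ideal.isMaximal_of_isIntegral_of_isMaximal_comap (R := p.ResidueField) M
    (Ideal.isMaximal_of_isPrime _)
  have := Hensel20.isSeparable_fibre_quotient p M
  letI : Field ((p.ResidueField ⊗[A] B) ⧸ M) := Ideal.Quotient.field M
  letI : Algebra p.ResidueField L := jL.toRingHom.toAlgebra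
  let ψ : ((p.ResidueField ⊗[A] B) ⧸ M) →ₐ[p.ResidueField] L := IsSepClosed.lift
  refine ⟨{ toRingHom := ψ.toRingHom.comp ((Ideal.Quotient.mk M).comp
      (Algebra.TensorProduct.includeRight : B →ₐ[A] p.ResidueField ⊗[A] B).toRingHom)
            commutes' := fun a => ?_ }, ?_⟩
  · show ψ (Ideal.Quotient.mk M ((Algebra.TensorProduct.includeRight : B →ₐ[A] p.ResidueField ⊗[A] B)
      (algebraMap A B a))) = algebraMap A L a
    rw [AlgHom.commutes, IsScalarTower.algebraMap_apply A p.ResidueField (p.ResidueField ⊗[A] B)]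
    exact (ψ.commutes _).trans (jL.commutes a)
  · ext b
    rw [RingHom.mem_ker]
    show ψ (Ideal.Quotient.mk M ((1 : p.ResidueField) ⊗ₜ b)) = 0 ↔ b ∈ q
    refine ((map_eq_zero_iff ψ.toRingHom (RingHom.injective _)).trans Ideal.Quotient.eq_zero_iff_mem).trans ?_
    show π ((1 : p.ResidueField) ⊗ₜ b) = 0 ↔ b ∈ q
    rw [Algebra.TensorProduct.lift_tmul, map_one, one_mul]
    exact Ideal.algebraMap_residueField_eq_zero

/-- Two minimal primes of `H A K` below `q` coincide if the unibranch local algebra `A'` sits over the trace. -/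
theorem eq_of_le_of_geomUnibranch {A' : Type u} [CommRing A'] [IsLocalRing A'] [Algebra A A'] [Module.Flat A A']
    (hA' : CAlg2.IsGeomUnibranch A') (q : Ideal (Henz21.H A K)) [q.IsPrime]
    (h : (maximalIdeal A').comap (algebraMap A A') = q.comap (algebraMap A (Henz21.H A K)))
    {P P' : Ideal (Henz21.H A K)} (hP : P ∈ minimalPrimes (Henz21.H A K))
    (hP' : P' ∈ minimalPrimes (Henz21.H A K)) (hle : P ≤ q) (hle' : P' ≤ q) : P = P' := by
  let T := Henz21.StrictHenselization A'
  letI : Algebra A T := ((algebraMap A' T).comp (algebraMap A A')).toAlgebra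
  have : IsScalarTower A A' T := IsScalarTower.of_algebraMap_eq fun _ => rfl
  have : Module.Flat A T := Module.Flat.trans A A' T
  have hsub : Subsingleton (minimalPrimes T) := (subsingleton_minimalPrimes_iff T).1 hA'
  have hsc : IsSepClosed (ResidueField T) :=
    (inferInstance : Hensel.IsStrictHenselization A' T).isSepClosure.sep_closed
  have hker : RingHom.ker (algebraMap A (ResidueField T)) = q.comap (algebraMap A (Henz21.H A K)) := by
    rw [← h]
    ext a
    rw [RingHom.mem_ker, Ideal.mem_comap, IsScalarTower.algebraMap_apply A T (ResidueField T),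
      ResidueField.algebraMap_eq, residue_eq_zero_iff, IsScalarTower.algebraMap_apply A A' T]
    exact ⟨fun ha => by_contra fun hu => ha ((not_not.1 hu).map (algebraMap A' T)),
      fun ha hu => ha (isUnit_of_map_unit _ _ hu)⟩
  obtain ⟨θ, hθ⟩ := exists_residue_hom q hker
  obtain ⟨g, hg, -⟩ := Henz21.H.existsUnique_lift θ
  have hgq : (maximalIdeal T).comap g.toRingHom = q := by
    rw [← hθ]
    ext b
    rw [RingHom.mem_ker, Ideal.mem_comap, ← residue_eq_zero_iff, ← hg]
    rfl
  letI : Algebra (Henz21.H A K) T := g.toRingHom.toAlgebra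
  have : Module.Flat (Henz21.H A K) T := Brnch26.flat_of_algHom g
  have : (maximalIdeal T).LiesOver q := ⟨hgq.symm⟩
  have key : ∀ {P : Ideal (Henz21.H A K)}, P.IsPrime → P ≤ q →
      ∃ Q : Ideal T, Q.IsPrime ∧ Q.comap (algebraMap (Henz21.H A K) T) = P := by
    intro P hPp hle
    obtain ⟨Q, -, hQ, hQP⟩ := Ideal.exists_ideal_le_liesOver_of_le (Q := maximalIdeal T) hle
    exact ⟨Q, hQ, hQP.over.symm⟩
  obtain ⟨Q, hQ, hQP⟩ := key hP.1.1 hle
  obtain ⟨Q', hQ', hQP'⟩ := key hP'.1.1 hle'
  obtain ⟨M, hM, hMQ⟩ := Ideal.exists_minimalPrimes_le (I := (⊥ : Ideal T)) (J := Q) bot_le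
  obtain ⟨M', hM', hMQ'⟩ := Ideal.exists_minimalPrimes_le (I := (⊥ : Ideal T)) (J := Q') bot_le
  obtain rfl : M = M' := congrArg Subtype.val (hsub.elim ⟨M, hM⟩ ⟨M', hM'⟩)
  have hMp : M.IsPrime := hM.1.1
  have e1 : P ≤ M.comap (algebraMap (Henz21.H A K) T) :=
    hP.2 ⟨Ideal.comap_isPrime _ _, bot_le⟩ ((Ideal.comap_mono hMQ).trans hQP.le)
  have e2 : P' ≤ M.comap (algebraMap (Henz21.H A K) T) :=
    hP'.2 ⟨Ideal.comap_isPrime _ _, bot_le⟩ ((Ideal.comap_mono hMQ').trans hQP'.le)
  exact le_antisymm (hP.2 hP'.1 (e2.trans ((Ideal.comap_mono hMQ).trans hQP.le))) 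
    (hP'.2 hP.1 (e1.trans ((Ideal.comap_mono hMQ').trans hQP'.le)))

end lift

/-- Punctured spectra with a unique minimal prime are connected. -/
theorem connectedSpace_punctured {S : Type u} [CommRing S] [IsLocalRing S] [Subsingleton (minimalPrimes S)]
    (hm : maximalIdeal S ∉ minimalPrimes S) :
    ConnectedSpace ↥({closedPoint S}ᶜ : Set (PrimeSpectrum S)) := by
  have := ‹Subsingleton (minimalPrimes S)›
  obtain ⟨M, hM, hMle⟩ := Ideal.exists_minimalPrimes_le (I := (⊥ : Ideal S)) (J := maximalIdeal S) bot_le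
  let μ : PrimeSpectrum S := ⟨M, hM.1.1⟩
  have hμ : μ ∈ ({closedPoint S}ᶜ : Set (PrimeSpectrum S)) := fun h => hm (by
    have : M = maximalIdeal S := congrArg PrimeSpectrum.asIdeal h
    rwa [← this])
  have hsub : ({closedPoint S}ᶜ : Set (PrimeSpectrum S)) ⊆ closure {μ} := fun x _ => by
    obtain ⟨M', hM', hle⟩ := Ideal.exists_minimalPrimes_le (I := (⊥ : Ideal S)) (J := x.asIdeal) bot_le
    obtain rfl : M = M' := congrArg Subtype.val (Subsingleton.elim (⟨M, hM⟩ : minimalPrimes S) ⟨M', hM'⟩)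
    exact ((PrimeSpectrum.le_iff_specializes μ x).1 hle).mem_closure
  exact Subtype.connectedSpace ⟨⟨μ, hμ⟩,
    isPreconnected_singleton.subset_closure (Set.singleton_subset_iff.2 hμ) hsub⟩

theorem maximalIdeal_notMem_minimalPrimes {A : Type u} [CommRing A] [IsLocalRing A] (S : Type u) [CommRing S]
    [IsLocalRing S] [Algebra A S] [IsLocalHom (algebraMap A S)] [Hensel.IsStrictHenselization A S]
    {p : Ideal A} [hp : p.IsPrime] (hne : p ≠ maximalIdeal A) : maximalIdeal S ∉ minimalPrimes S := by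
  intro hmin
  have := Henz21.strictHenselization_faithfullyFlat (R := A) S
  obtain ⟨P, hP⟩ := PrimeSpectrum.comap_surjective_of_faithfullyFlat (B := S) ⟨p, hp⟩
  have hP' : P.asIdeal.comap (algebraMap A S) = p := congrArg PrimeSpectrum.asIdeal hP
  have : P.asIdeal = maximalIdeal S :=
    le_antisymm (le_maximalIdeal P.isPrime.ne_top) (hmin.2 ⟨P.isPrime, bot_le⟩ (le_maximalIdeal P.isPrime.ne_top))
  rw [this] at hP'
  exact hne (hP'.symm.trans (((local_hom_TFAE (algebraMap A S)).out 0 4).mp ‹IsLocalHom (algebraMap A S)›))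

/-- Unibranchness from connectedness of the punctured spectrum and unibranchness of smaller localizations. -/
theorem isGeomUnibranch_of_connected {A : Type u} [CommRing A] [IsLocalRing A] [IsNoetherianRing A]
    (hconn : (∃ p : Ideal A, p.IsPrime ∧ p ≠ maximalIdeal A) →
      ConnectedSpace ↥({closedPoint (Henz21.StrictHenselization A)}ᶜ :
        Set (PrimeSpectrum (Henz21.StrictHenselization A))))
    (hloc : ∀ p : Ideal A, p.IsPrime → p ≠ maximalIdeal A →
      ∃ (A' : Type u) (_ : CommRing A') (_ : IsLocalRing A') (_ : Algebra A A') (_ : Module.Flat A A'),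
        CAlg2.IsGeomUnibranch A' ∧ (maximalIdeal A').comap (algebraMap A A') = p) :
    CAlg2.IsGeomUnibranch A := by
  classical
  let S := Henz21.StrictHenselization A
  have hfib : ∀ q : Ideal S, q.IsPrime → q ≠ maximalIdeal S → q.comap (algebraMap A S) ≠ maximalIdeal A := by
    intro q hq hne h
    refine hne (le_antisymm (le_maximalIdeal hq.ne_top) ?_)
    rw [← Henz21.H.map_maximalIdeal (R := A)]
    exact Ideal.map_le_iff_le_comap.2 h.ge
  rw [subsingleton_minimalPrimes_iff S]
  by_contra hns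
  rw [not_subsingleton_iff_nontrivial] at hns
  obtain ⟨⟨P₀, hP₀⟩, ⟨P₁, hP₁⟩, hne⟩ := hns
  have hne' : P₀ ≠ P₁ := fun h => hne (Subtype.ext h)
  have hmax : ∀ P ∈ minimalPrimes S, P ≠ maximalIdeal S := by
    intro P hP hPm
    refine hne' ?_
    have hall : ∀ Q ∈ minimalPrimes S, Q = P := fun Q hQ =>
      le_antisymm ((le_maximalIdeal hQ.1.1.ne_top).trans hPm.ge)
        (hP.2 hQ.1 ((le_maximalIdeal hQ.1.1.ne_top).trans hPm.ge))
    rw [hall P₀ hP₀, hall P₁ hP₁]
  have : ConnectedSpace ↥({closedPoint S}ᶜ : Set (PrimeSpectrum S)) :=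
    hconn ⟨P₀.comap (algebraMap A S), (have := hP₀.1.1; Ideal.comap_isPrime (algebraMap A S) P₀), hfib P₀ hP₀.1.1 (hmax P₀ hP₀)⟩
  let U : Set (PrimeSpectrum S) := {closedPoint S}ᶜ
  let Z₀ : Set (PrimeSpectrum S) := PrimeSpectrum.zeroLocus P₀
  let Z₁ : Set (PrimeSpectrum S) := ⋃ P ∈ minimalPrimes S \ {P₀}, PrimeSpectrum.zeroLocus (P : Set S)
  have hZ₁ : IsClosed Z₁ := (minimalPrimes.finite_of_isNoetherianRing S).sdiff.isClosed_biUnion
    fun _ _ => PrimeSpectrum.isClosed_zeroLocus _
  have hpc : _root_.IsPreconnected U := isPreconnected_iff_preconnectedSpace.2 inferInstance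
  have hcov : U ⊆ Z₀ ∪ Z₁ := fun x _ => by
    obtain ⟨P, hP, hle⟩ := Ideal.exists_minimalPrimes_le (I := (⊥ : Ideal S)) (J := x.asIdeal) bot_le
    by_cases h : P = P₀
    · subst h; exact Or.inl hle
    · exact Or.inr (Set.mem_biUnion ⟨hP, h⟩ hle)
  have hmem : ∀ (P : Ideal S) (hP : P ∈ minimalPrimes S), (⟨P, hP.1.1⟩ : PrimeSpectrum S) ∈ U := fun P hP h =>
    hmax P hP (congrArg PrimeSpectrum.asIdeal h)
  obtain ⟨x, hxU, hx₀, hx₁⟩ := isPreconnected_closed_iff.1 hpc Z₀ Z₁ (PrimeSpectrum.isClosed_zeroLocus _) hZ₁ hcov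
    ⟨_, hmem P₀ hP₀, fun _ h => h⟩
    ⟨_, hmem P₁ hP₁, Set.mem_biUnion ⟨hP₁, Ne.symm hne'⟩ (fun _ h => h)⟩
  obtain ⟨P, hP, hxP⟩ := Set.mem_iUnion₂.1 hx₁
  have hxm : x.asIdeal ≠ maximalIdeal S := fun h => hxU (PrimeSpectrum.ext h)
  obtain ⟨A', _, _, _, _, hA', hcomap⟩ := hloc _ (Ideal.comap_isPrime _ _) (hfib _ x.isPrime hxm)
  exact hP.2 (eq_of_le_of_geomUnibranch hA' x.asIdeal hcomap hP.1 hP₀ hxP hx₀)

/-- Generizations of a point inside an affine open. -/
theorem exists_generization {X : Scheme.{u}} (x : X) (p : Ideal (X.presheaf.stalk x)) [hp : p.IsPrime] :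
    ∃ (y : X) (h : y ⤳ x),
      letI := (X.presheaf.stalkSpecializes h).hom.toAlgebra
      Module.Flat (X.presheaf.stalk x) (X.presheaf.stalk y) ∧
        (maximalIdeal (X.presheaf.stalk y)).comap (X.presheaf.stalkSpecializes h).hom = p ∧
        (p ≠ maximalIdeal (X.presheaf.stalk x) → y ≠ x) ∧
        ([IsLocallyNoetherian X] → p ≠ maximalIdeal (X.presheaf.stalk x) →
          ringKrullDim (X.presheaf.stalk y) < ringKrullDim (X.presheaf.stalk x)) := by
  obtain ⟨U, hU, hxU, -⟩ := exists_isAffineOpen_mem_and_subset (U := (⊤ : X.Opens)) (x := x) trivial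
  let P := hU.primeIdealOf ⟨x, hxU⟩
  letI := X.presheaf.algebra_section_stalk (U := U) ⟨x, hxU⟩
  have hlocx : IsLocalization.AtPrime (X.presheaf.stalk x) P.asIdeal := hU.isLocalization_stalk ⟨x, hxU⟩
  let q : PrimeSpectrum Γ(X, U) := ⟨p.comap (algebraMap Γ(X, U) (X.presheaf.stalk x)), Ideal.comap_isPrime _ _⟩
  have hqP : q ≤ P := by
    show p.comap _ ≤ P.asIdeal
    rw [← IsLocalization.AtPrime.under_maximalIdeal (X.presheaf.stalk x) P.asIdeal]
    exact Ideal.comap_mono (le_maximalIdeal hp.ne_top)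
  let y : X := hU.fromSpec q
  have hy : y ⤳ x := by
    have h1 := ((PrimeSpectrum.le_iff_specializes q P).1 hqP).map hU.fromSpec.continuous
    rwa [hU.fromSpec_primeIdealOf ⟨x, hxU⟩] at h1
  have hyU : y ∈ U := hU.range_fromSpec.le ⟨q, rfl⟩
  let Q := hU.primeIdealOf ⟨y, hyU⟩
  have hQq : Q = q := hU.fromSpec.isOpenEmbedding.injective (hU.fromSpec_primeIdealOf ⟨y, hyU⟩)
  have hQ : Q.asIdeal = p.comap (algebraMap Γ(X, U) (X.presheaf.stalk x)) := congrArg PrimeSpectrum.asIdeal hQq
  have hlt : p ≠ maximalIdeal (X.presheaf.stalk x) → Q.asIdeal < P.asIdeal := by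
    intro hne
    refine lt_of_le_of_ne ((congrArg (· ≤ P.asIdeal) hQ).mpr hqP) fun h => hne ?_
    rw [← IsLocalization.map_under P.asIdeal.primeCompl (X.presheaf.stalk x) p, Ideal.under, ← hQ, h]
    exact IsLocalization.AtPrime.map_eq_maximalIdeal P.asIdeal (X.presheaf.stalk x)
  letI := X.presheaf.algebra_section_stalk (U := U) ⟨y, hyU⟩
  have hlocy : IsLocalization.AtPrime (X.presheaf.stalk y) Q.asIdeal := hU.isLocalization_stalk ⟨y, hyU⟩
  refine ⟨y, hy, ?_⟩
  letI := (X.presheaf.stalkSpecializes hy).hom.toAlgebra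
  have hcomp : (X.presheaf.stalkSpecializes hy).hom.comp (algebraMap Γ(X, U) (X.presheaf.stalk x)) =
      algebraMap Γ(X, U) (X.presheaf.stalk y) :=
    congrArg CommRingCat.Hom.hom (TopCat.Presheaf.germ_stalkSpecializes X.presheaf hxU hy)
  have : IsScalarTower Γ(X, U) (X.presheaf.stalk x) (X.presheaf.stalk y) :=
    IsScalarTower.of_algebraMap_eq' hcomp.symm
  have : Module.Flat Γ(X, U) (X.presheaf.stalk y) := IsLocalization.flat _ Q.asIdeal.primeCompl
  refine ⟨(Module.flat_iff_of_isLocalization (X.presheaf.stalk x) P.asIdeal.primeCompl _).2 inferInstance, ?_, ?_, ?_⟩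
  · rw [← IsLocalization.map_under P.asIdeal.primeCompl (X.presheaf.stalk x)
        ((maximalIdeal (X.presheaf.stalk y)).comap (X.presheaf.stalkSpecializes hy).hom)]
    conv_rhs => rw [← IsLocalization.map_under P.asIdeal.primeCompl (X.presheaf.stalk x) p]
    refine congrArg (Ideal.map _) ?_
    rw [Ideal.under, Ideal.under, Ideal.comap_comap, hcomp, ← hQ]
    exact IsLocalization.AtPrime.under_maximalIdeal (X.presheaf.stalk y) Q.asIdeal
  · intro hne hyx
    exact (hlt hne).ne (congrArg (fun z => (hU.primeIdealOf z).asIdeal) (Subtype.ext hyx : (⟨y, hyU⟩ : U) = ⟨x, hxU⟩))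
  · intro _ hne
    have : IsNoetherianRing Γ(X, U) := IsLocallyNoetherian.component_noetherian ⟨U, hU⟩
    rw [IsLocalization.AtPrime.ringKrullDim_eq_height Q.asIdeal (X.presheaf.stalk y),
      IsLocalization.AtPrime.ringKrullDim_eq_height P.asIdeal (X.presheaf.stalk x)]
    exact WithBot.coe_lt_coe.2 (Ideal.height_strict_mono_of_isPrime (hlt hne))

theorem exists_prime_ne_iff {X : Scheme.{u}} (x : X) :
    (∃ p : Ideal (X.presheaf.stalk x), p.IsPrime ∧ p ≠ maximalIdeal _) ↔
      closure ({x} : Set X) ∉ irreducibleComponents X := by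
  constructor
  · rintro ⟨p, hp, hne⟩ hc
    obtain ⟨y, hy, -, -, hyx, -⟩ := exists_generization x p
    refine hyx hne ?_
    have h1 : closure ({x} : Set X) ⊆ closure {y} :=
      isClosed_closure.closure_subset_iff.2 (Set.singleton_subset_iff.2 hy.mem_closure)
    have h2 := hc.2 isIrreducible_singleton.closure h1
    exact ((specializes_iff_mem_closure.2 (h2 (subset_closure rfl))).antisymm hy).eq.symm
  · intro hc
    by_contra h
    push Not at h
    refine hc ⟨isIrreducible_singleton.closure, fun T hT hle => ?_⟩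
    obtain ⟨η, hη⟩ := QuasiSober.sober (S := closure T) hT.closure isClosed_closure
    have hηx : η ⤳ x := specializes_iff_mem_closure.2 (hη.symm ▸ subset_closure (hle (subset_closure rfl)))
    have hx : η ∈ Set.range (X.fromSpecStalk x) := X.range_fromSpecStalk ▸ hηx
    obtain ⟨q, rfl⟩ := hx
    have hq : q = closedPoint (X.presheaf.stalk x) := PrimeSpectrum.ext (h q.asIdeal q.isPrime)
    rw [hq, Scheme.fromSpecStalk_closedPoint] at hη
    exact subset_closure.trans hη.ge

theorem forall_iff (X : Scheme.{u}) [IsNoetherian X] :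
    (∀ x : X, CAlg2.IsGeomUnibranch (X.presheaf.stalk x)) ↔
      ∀ (x : X), closure ({x} : Set X) ∉ irreducibleComponents X →
        ∀ (Ash : Type u) [CommRing Ash] [IsLocalRing Ash] [Algebra (X.presheaf.stalk x) Ash]
          [IsLocalHom (algebraMap (X.presheaf.stalk x) Ash)]
          [Hensel.IsStrictHenselization (X.presheaf.stalk x) Ash],
          ConnectedSpace ↥({IsLocalRing.closedPoint Ash}ᶜ : Set (PrimeSpectrum Ash)) := by
  constructor
  · intro h x hx Ash _ _ _ _ _
    have := (subsingleton_minimalPrimes_iff Ash).1 (h x)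
    obtain ⟨p, hp, hne⟩ := (exists_prime_ne_iff x).2 hx
    exact connectedSpace_punctured (maximalIdeal_notMem_minimalPrimes (A := X.presheaf.stalk x) Ash hne)
  · intro h x
    suffices ∀ (n : ℕ) (y : X), ringKrullDim (X.presheaf.stalk y) ≤ n →
        CAlg2.IsGeomUnibranch (X.presheaf.stalk y) by
      obtain ⟨n, hn⟩ : ∃ n : ℕ, ringKrullDim (X.presheaf.stalk x) ≤ n := by
        obtain ⟨n, hn⟩ := WithBot.ne_bot_iff_exists.1 (ringKrullDim_ne_bot (R := X.presheaf.stalk x))
        have : n ≠ ⊤ := fun e => ringKrullDim_ne_top (R := X.presheaf.stalk x) (by rw [← hn, e]; rfl)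
        exact ⟨n.toNat, by rw [← hn, ← ENat.coe_toNat this]; exact le_of_eq rfl⟩
      exact this n x hn
    intro n
    induction n using Nat.strong_induction_on with
    | _ n ih =>
      intro y hy
      refine isGeomUnibranch_of_connected
        (fun hp => h y ((exists_prime_ne_iff y).1 hp) (Henz21.StrictHenselization (X.presheaf.stalk y))) ?_
      intro p hp hne
      obtain ⟨z, hz, hflat, hcomap, -, hdim⟩ := exists_generization y p
      letI := (X.presheaf.stalkSpecializes hz).hom.toAlgebra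
      refine ⟨X.presheaf.stalk z, inferInstance, inferInstance, inferInstance, hflat, ?_, hcomap⟩
      have hlt : ringKrullDim (X.presheaf.stalk z) < ringKrullDim (X.presheaf.stalk y) := hdim hne
      obtain ⟨m, hm⟩ := WithBot.ne_bot_iff_exists.1 (ringKrullDim_ne_bot (R := X.presheaf.stalk z))
      have hmn : m < n := by
        have := hlt.trans_le hy
        rw [← hm] at this
        exact WithBot.coe_lt_coe.1 this
      obtain ⟨k, rfl⟩ := ENat.ne_top_iff_exists.1 (ne_top_of_lt hmn)
      exact ih k (by exact_mod_cast hmn) z hm.ge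

end Groth.Agent.Props58.GeomUnibranch
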