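import Mathlib.AlgebraicGeometry.Artinian
import Mathlib.AlgebraicGeometry.Morphisms.Separated
import Mathlib.AlgebraicGeometry.PullbackCarrier
import Mathlib.RingTheory.Ideal.MinimalPrime.Localization
import Groth.Prelude.Def_Flat

set_option autoImplicit false
universe u

open CategoryTheory Limits TopologicalSpace AlgebraicGeometry

namespace Groth.Agent.Props58

lemma isSeparated_of_t2Space (X : Scheme.{u}) [T2Space X] : X.IsSeparated := by
  constructor
  let f := terminal.from X
  suffices h : IsClosed (Set.range (pullback.diagonal f)) by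
    exact ⟨IsClosedImmersion.of_isPreimmersion _ h⟩
  refine isClosed_of_closure_subset fun z hz => ?_
  let a := pullback.fst f f z
  let b := pullback.snd f f z
  have hfst : ∀ v, pullback.fst f f (pullback.diagonal f v) = v := fun v => by
    rw [← Scheme.Hom.comp_apply, pullback.diagonal_fst]; rfl
  have hsnd : ∀ v, pullback.snd f f (pullback.diagonal f v) = v := fun v => by
    rw [← Scheme.Hom.comp_apply, pullback.diagonal_snd]; rfl
  by_cases hab : a = b
  · obtain ⟨U, hU, hxU, -⟩ :=
      exists_isAffineOpen_mem_and_subset (x := a) (U := (⊤ : X.Opens)) trivial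
    have : IsAffine (U : Scheme) := hU
    let g : (U : Scheme) ⟶ ⊤_ Scheme := U.ι ≫ f
    let m : pullback g g ⟶ pullback f f :=
      pullback.map g g f f U.ι U.ι (𝟙 _) (by simp [g]) (by simp [g])
    obtain ⟨w, rfl⟩ : z ∈ Set.range m := by
      rw [Scheme.Pullback.range_map, Scheme.Opens.range_ι]
      exact ⟨hxU, show b ∈ U from hab ▸ hxU⟩
    have hm : pullback.diagonal g ≫ m = U.ι ≫ pullback.diagonal f := by
      apply pullback.hom_ext <;> simp [m, pullback.map, pullback.lift_fst, pullback.lift_snd,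
        pullback.diagonal_fst_assoc, pullback.diagonal_snd_assoc]
    have hg : IsClosed (Set.range (pullback.diagonal g)) :=
      (pullback.diagonal g).isClosedEmbedding.isClosed_range
    have hw : w ∈ closure (m ⁻¹' Set.range (pullback.diagonal f)) := by
      rw [← m.isOpenEmbedding.isOpenMap.preimage_closure_eq_closure_preimage m.continuous]
      exact hz
    have : w ∈ Set.range (pullback.diagonal g) := by
      refine closure_minimal ?_ hg hw
      rintro c ⟨v, hv⟩
      have hvU : v ∈ Set.range U.ι := by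
        refine ⟨pullback.fst g g c, ?_⟩
        rw [← hfst v, hv, ← Scheme.Hom.comp_apply, ← Scheme.Hom.comp_apply]
        exact congr($((pullback.lift_fst _ _ _ :
          m ≫ pullback.fst f f = pullback.fst g g ≫ U.ι)) c).symm
      obtain ⟨v, rfl⟩ := hvU
      refine ⟨v, m.isOpenEmbedding.injective ?_⟩
      rw [← hv]
      exact congr($hm v)
    obtain ⟨v, rfl⟩ := this
    exact ⟨U.ι v, congr($hm v).symm⟩
  · obtain ⟨A, B, hA, hB, haA, hbB, hAB⟩ := t2_separation hab
    obtain ⟨_, ⟨hcA, hcB⟩, v, rfl⟩ := mem_closure_iff.mp hz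
      (pullback.fst f f ⁻¹' A ∩ pullback.snd f f ⁻¹' B)
      ((hA.preimage (pullback.fst f f).continuous).inter (hB.preimage (pullback.snd f f).continuous))
      ⟨haA, hbB⟩
    rw [Set.mem_preimage, hfst] at hcA
    rw [Set.mem_preimage, hsnd] at hcB
    exact (Set.disjoint_left.mp hAB hcA hcB).elim

variable {X : Scheme.{u}}

lemma eq_of_specializes {X : Type*} [TopologicalSpace X] [T0Space X] (h : topologicalKrullDim X ≤ 0)
    {a b : X} (hab : a ⤳ b) : a = b := by
  let A : IrreducibleCloseds X := ⟨closure {a}, isIrreducible_singleton.closure, isClosed_closure⟩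
  let B : IrreducibleCloseds X := ⟨closure {b}, isIrreducible_singleton.closure, isClosed_closure⟩
  have hle : B ≤ A :=
    closure_minimal (Set.singleton_subset_iff.mpr hab.mem_closure) isClosed_closure
  have : A ≤ B := (Order.krullDim_nonpos_iff_forall_isMax.mp h) B hle
  exact ((specializes_iff_mem_closure.mpr (hle (subset_closure rfl))).antisymm
    (specializes_iff_mem_closure.mpr (this (subset_closure rfl)))).eq

lemma t2Space_primeSpectrum {R : Type*} [CommRing R]
    (h : ∀ p q : PrimeSpectrum R, p ≤ q → p = q) : T2Space (PrimeSpectrum R) := by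
  refine ⟨fun p q hpq => ?_⟩
  obtain ⟨f, hfq, hfp⟩ : ∃ f ∈ q.asIdeal, f ∉ p.asIdeal := by
    by_contra hc
    push Not at hc
    exact hpq (h q p hc).symm
  have hmin : q.asIdeal ∈ minimalPrimes R := by
    refine ⟨⟨q.2, bot_le⟩, fun r ⟨hr, _⟩ hrq => ?_⟩
    rw [← h ⟨r, hr⟩ q hrq]
  have : Ring.KrullDimLE 0 (Localization.AtPrime q.asIdeal) := .of_isLocalization _ hmin _
  obtain ⟨n, hn⟩ : IsNilpotent (algebraMap R (Localization.AtPrime q.asIdeal) f) :=
    Ring.KrullDimLE.isNilpotent_iff_mem_maximalIdeal.mpr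
      ((IsLocalization.AtPrime.to_map_mem_maximal_iff _ q.asIdeal f).mpr hfq)
  rw [← map_pow] at hn
  obtain ⟨⟨s, hs⟩, hsf⟩ := (IsLocalization.map_eq_zero_iff q.asIdeal.primeCompl _ _).mp hn
  refine ⟨PrimeSpectrum.basicOpen f, PrimeSpectrum.basicOpen s, (PrimeSpectrum.basicOpen f).2,
    (PrimeSpectrum.basicOpen s).2, hfp, hs, Set.disjoint_left.mpr fun r hrf hrs => ?_⟩
  have : s * f ^ n ∈ r.asIdeal := by rw [show s * f ^ n = 0 from hsf]; exact zero_mem _
  exact (r.2.mem_or_mem this).elim hrs fun h => hrf (r.2.mem_of_pow_mem n h)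

lemma t2Space_affineOpen (h : ∀ a b : X, a ⤳ b → a = b) {U : X.Opens} (hU : IsAffineOpen U) :
    T2Space (U : Set X) := by
  have : T2Space (Spec Γ(X, U)) := by
    refine t2Space_primeSpectrum fun p q hpq => ?_
    exact hU.fromSpec.isOpenEmbedding.injective
      (h _ _ (((PrimeSpectrum.le_iff_specializes p q).mp hpq).map hU.fromSpec.continuous))
  exact (hU.isoSpec.hom.homeomorph.isEmbedding.t2Space : T2Space (U : Scheme))

lemma t2Space_of_quasiSeparated [QuasiSeparatedSpace X] (h : ∀ a b : X, a ⤳ b → a = b) :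
    T2Space X := by
  refine ⟨fun x y hxy => ?_⟩
  obtain ⟨U, hU, hxU, -⟩ :=
    exists_isAffineOpen_mem_and_subset (x := x) (U := (⊤ : X.Opens)) trivial
  obtain ⟨V, hV, hyV, -⟩ :=
      exists_isAffineOpen_mem_and_subset (x := y) (U := (⊤ : X.Opens)) trivial
  have key : ∀ {W : X.Opens}, IsAffineOpen W → x ∈ W → y ∈ W →
      ∃ A B : Set X, IsOpen A ∧ IsOpen B ∧ x ∈ A ∧ y ∈ B ∧ Disjoint A B := by
    intro W hW hxW hyW
    have := t2Space_affineOpen h hW
    obtain ⟨A, B, hA, hB, ha, hb, hAB⟩ := t2_separation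
      (show (⟨x, hxW⟩ : (W : Set X)) ≠ ⟨y, hyW⟩ from fun e => hxy (congrArg Subtype.val e))
    exact ⟨_, _, W.2.isOpenMap_subtype_val A hA, W.2.isOpenMap_subtype_val B hB,
      ⟨_, ha, rfl⟩, ⟨_, hb, rfl⟩, (Set.disjoint_image_iff Subtype.val_injective).mpr hAB⟩
  by_cases hyU : y ∈ U
  · exact key hU hxU hyU
  by_cases hxV : x ∈ V
  · exact key hV hxV hyV
  have hc : IsCompact ((U : Set X) ∩ V) :=
    QuasiSeparatedSpace.inter_isCompact _ _ U.2 hU.isCompact V.2 hV.isCompact
  have := t2Space_affineOpen h hU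
  have hc' : IsClosed ((Subtype.val : ↥(U : Set X) → X) ⁻¹' (V : Set X)) := by
    refine (IsCompact.isClosed ?_)
    rw [Subtype.isCompact_iff, Subtype.image_preimage_coe]
    exact hc
  refine ⟨Subtype.val '' ((Subtype.val : ↥(U : Set X) → X) ⁻¹' (V : Set X))ᶜ, V,
    U.2.isOpenMap_subtype_val _ hc'.isOpen_compl, V.2, ⟨⟨x, hxU⟩, hxV, rfl⟩, hyV, ?_⟩
  rw [Set.disjoint_left]
  rintro _ ⟨a, ha, rfl⟩ haV
  exact ha haV

lemma isAffineOpen_of_isClosed_of_le {U V : X.Opens} (hU : IsAffineOpen U) (hVU : V ≤ U)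
    (hV : IsClosed (V : Set X)) : IsAffineOpen V := by
  have : IsAffine (U : Scheme) := hU
  have : IsClosedImmersion (X.homOfLE hVU) := by
    refine .of_isPreimmersion _ ?_
    have e : Set.range (X.homOfLE hVU) = U.ι ⁻¹' (V : Set X) := by
      ext a
      refine ⟨fun ⟨b, hb⟩ => ?_, fun ha => ⟨⟨a.1, ha⟩, Subtype.ext ?_⟩⟩
      · subst hb
        show U.ι (X.homOfLE hVU b) ∈ V
        exact congr($(X.homOfLE_ι hVU) b) ▸ b.2
      · exact congr($(X.homOfLE_ι hVU) ⟨a.1, ha⟩)
    rw [e]
    exact hV.preimage U.ι.continuous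
  exact isAffine_of_isAffineHom (X.homOfLE hVU)

lemma isAffineOpen_of_isCompact [T2Space X] (U : X.Opens) (hU : IsCompact (U : Set X)) :
    IsAffineOpen U := by
  obtain ⟨s, hs, hsU⟩ := (isCompact_iff_finite_and_eq_biUnion_affineOpens.mp hU)
  have key : ∀ t : Finset X.affineOpens, IsAffineOpen (t.sup (fun V => V.1)) := by
    intro t
    induction t using Finset.cons_induction with
    | empty => simpa using isAffineOpen_bot X
    | cons V t hVt ih =>
      rw [Finset.sup_cons]
      have hc : IsClosed (V.1 : Set X) := V.2.isCompact.isClosed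
      have hc' : IsClosed ((t.sup (fun V => V.1) : X.Opens) : Set X) := ih.isCompact.isClosed
      let W : X.Opens := ⟨(t.sup (fun V => V.1) : X.Opens) \ V.1,
        (t.sup (fun V => V.1) : X.Opens).2.inter hc.isOpen_compl⟩
      have hW : IsAffineOpen W :=
        isAffineOpen_of_isClosed_of_le ih (fun a ha => ha.1) (hc'.inter V.1.2.isClosed_compl)
      have : (V.1 : X.Opens) ⊔ t.sup (fun V => V.1) = V.1 ⊔ W := by
        ext a
        simp [W, TopologicalSpace.Opens.coe_sup]
      rw [this]
      refine V.2.sup_of_disjoint hW ?_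
      rw [← TopologicalSpace.Opens.coe_disjoint]
      exact Set.disjoint_left.mpr fun a ha hb => hb.2 ha
  have : U = (hs.toFinset).sup (fun V => V.1) := by
    refine TopologicalSpace.Opens.ext ?_
    rw [hsU, Finset.sup_eq_iSup]
    simp
  exact this ▸ key _

lemma le_zero_of_lt_one {d : WithBot ℕ∞} (h : d < 1) : d ≤ 0 := by
  induction d with
  | bot => exact bot_le
  | coe n =>
    have : n < 1 := by exact_mod_cast h
    exact_mod_cast (Order.lt_one_iff.mp this).le

lemma localDim_eq_zero_iff (X : Scheme.{u}) [IsLocallyNoetherian X] (x : X) :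
    FlatMor.localDim X x = 0 ↔ IsOpen ({x} : Set X) := by
  constructor
  · intro h
    obtain ⟨⟨U, hxU⟩, hU⟩ :=
      iInf_lt_iff.mp (h.trans_lt (zero_lt_one : (0 : WithBot ℕ∞) < 1))
    have hU' : topologicalKrullDim (U : Scheme) ≤ 0 :=
      Groth.Agent.Props58.le_zero_of_lt_one hU
    have := IsLocallyArtinian.of_topologicalKrullDim_le_zero hU'
    have := (isOpen_discrete ({⟨x, hxU⟩} : Set (U : Scheme)))
    have h2 := U.2.isOpenMap_subtype_val _ this
    exact (Set.image_singleton (f := Subtype.val) (a := (⟨x, hxU⟩ : U))) ▸ h2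
  · intro h
    let U : Opens X := ⟨{x}, h⟩
    have : DiscreteTopology (U : Set X) := by
      have : Subsingleton (U : Set X) := ⟨fun a b => Subtype.ext (a.2.trans b.2.symm)⟩
      infer_instance
    refine le_antisymm ((iInf_le _ ⟨U, rfl⟩).trans (topologicalKrullDim_zero_of_discreteTopology _))
      (le_iInf fun V => ?_)
    have : Nonempty (V.1 : Set X) := ⟨⟨x, V.2⟩⟩
    have : Nonempty (IrreducibleCloseds (V.1 : Set X)) :=
      ⟨⟨closure {⟨x, V.2⟩}, isIrreducible_singleton.closure, isClosed_closure⟩⟩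
    exact Order.krullDim_nonneg

end Groth.Agent.Props58
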