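import Groth.Agent.QC70.Res
import Groth.Prelude.Def_EGA4b
import Mathlib.AlgebraicGeometry.Morphisms.FiniteType
import Mathlib.RingTheory.RegularLocalRing.Defs

/-! J-2 schemes versus J-2 rings. -/

set_option autoImplicit false
set_option backward.isDefEq.respectTransparency.types false

universe u

open CategoryTheory AlgebraicGeometry TopologicalSpace

namespace Groth.Agent.Props58.J2

lemma isRegularLocalRing_iff {A : Type u} [CommRing A] (p : Ideal A) [p.IsPrime] (B : Type u)
    [CommRing B] [Algebra A B] [IsLocalization.AtPrime B p] :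
    IsRegularLocalRing B ↔ IsRegularLocalRing (Localization.AtPrime p) := by
  let e := (IsLocalization.algEquiv p.primeCompl B (Localization.AtPrime p)).toRingEquiv
  exact ⟨fun h => IsRegularLocalRing.of_ringEquiv e, fun h => IsRegularLocalRing.of_ringEquiv e.symm⟩

/-- The regular locus of an affine open is the image of the regular locus of its ring. -/
lemma preimage_regular {Y : Scheme.{u}} {V : Y.Opens} (hV : IsAffineOpen V) :
    hV.fromSpec ⁻¹' {y : Y | IsRegularLocalRing (Y.presheaf.stalk y)} = EGA4.regLocus Γ(Y, V) := by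
  ext p
  have hy : hV.fromSpec p ∈ V := hV.opensRange_fromSpec.le ⟨p, rfl⟩
  have hp : hV.primeIdealOf ⟨_, hy⟩ = p :=
    hV.fromSpec.isOpenEmbedding.injective (hV.fromSpec_primeIdealOf ⟨_, hy⟩)
  letI : Algebra Γ(Y, V) (Y.presheaf.stalk (hV.fromSpec p)) :=
    (Y.presheaf.germ V _ hy).hom.toAlgebra
  haveI : IsLocalization.AtPrime (Y.presheaf.stalk (hV.fromSpec p)) p.asIdeal := by
    have h0 := hV.isLocalization_stalk ⟨_, hy⟩
    simp only [hp] at h0
    exact h0
  exact isRegularLocalRing_iff p.asIdeal (Y.presheaf.stalk (hV.fromSpec p))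

lemma regLocus_spec (A : CommRingCat.{u}) :
    {p : Spec A | IsRegularLocalRing ((Spec A).presheaf.stalk p)} = EGA4.regLocus A := by
  ext p
  exact isRegularLocalRing_iff (A := A) (show PrimeSpectrum A from p).asIdeal
    ((Spec.structureSheaf A).presheaf.stalk p)

theorem j2_of_cover (X : Scheme.{u}) (h : ∀ x : X, ∃ U : X.affineOpens, x ∈ (U : X.Opens) ∧ EGA4.IsJ2 Γ(X, U))
    (Y : Scheme.{u}) (g : Y ⟶ X) [LocallyOfFiniteType g] :
    IsOpen {y : Y | IsRegularLocalRing (Y.presheaf.stalk y)} := by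
  rw [isOpen_iff_forall_mem_open]
  intro y hy
  obtain ⟨U, hxU, hJ⟩ := h (g y)
  obtain ⟨W, hW, hyW, hle⟩ := exists_isAffineOpen_mem_and_subset (show y ∈ g ⁻¹ᵁ U.1 from hxU)
  letI : Algebra Γ(X, U) Γ(Y, W) := (g.appLE U.1 W hle).hom.toAlgebra
  have hft : Algebra.FiniteType Γ(X, U) Γ(Y, W) :=
    HasRingHomProperty.appLE (P := @LocallyOfFiniteType) g inferInstance U ⟨W, hW⟩ hle
  have ho : IsOpen (EGA4.regLocus Γ(Y, W)) := hJ Γ(Y, W) hft
  refine ⟨hW.fromSpec '' EGA4.regLocus Γ(Y, W), ?_, hW.fromSpec.isOpenEmbedding.isOpenMap _ ho, ?_⟩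
  · rw [← preimage_regular hW]
    exact Set.image_preimage_subset _ _
  · obtain ⟨p, rfl⟩ := hW.range_fromSpec.symm.le hyW
    exact ⟨p, (preimage_regular hW).le hy, rfl⟩

theorem isJ2_of_forall (X : Scheme.{u})
    (h : ∀ (Y : Scheme.{u}) (g : Y ⟶ X), LocallyOfFiniteType g →
      IsOpen {y : Y | IsRegularLocalRing (Y.presheaf.stalk y)}) (U : X.affineOpens) :
    EGA4.IsJ2 Γ(X, U) := by
  intro S _ _ hS
  let φ : Γ(X, U) ⟶ CommRingCat.of S := CommRingCat.ofHom (algebraMap Γ(X, U) S)
  have : LocallyOfFiniteType (Spec.map φ) := by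
    rw [HasRingHomProperty.Spec_iff (P := @LocallyOfFiniteType)]
    exact RingHom.finiteType_algebraMap.mpr hS
  have ho := h (Spec (CommRingCat.of S)) (Spec.map φ ≫ U.2.fromSpec) inferInstance
  rw [regLocus_spec] at ho
  exact ho

end Groth.Agent.Props58.J2
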