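import Mathlib.AlgebraicGeometry.AffineSpace
import Mathlib.AlgebraicGeometry.QuasiAffine
import Mathlib.RingTheory.TensorProduct.Maps

/-!
The Jouanolou torsor of a quasi-affine scheme.
-/

universe u

open CategoryTheory Limits AlgebraicGeometry MvPolynomial TensorProduct

noncomputable section

namespace Groth.Agent.Props58.Jouanolou

variable (A : Type u) [CommRing A] (ι : Type u) [Fintype ι] (f : ι → A)

/-- The ideal of `∑ f_i t_i = 1` in `A[t, s]`. -/
def rel : Ideal (MvPolynomial (ι ⊕ PUnit.{u + 1}) A) := Ideal.span {∑ i, C (f i) * X (Sum.inl i) - 1}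

/-- `A[t, s]/(∑ f_i t_i - 1)`. -/
def B : Type u := MvPolynomial (ι ⊕ PUnit.{u + 1}) A ⧸ rel A ι f

instance : CommRing (B A ι f) := inferInstanceAs (CommRing (MvPolynomial (ι ⊕ PUnit.{u + 1}) A ⧸ rel A ι f))

instance : Algebra A (B A ι f) := inferInstanceAs (Algebra A (MvPolynomial (ι ⊕ PUnit.{u + 1}) A ⧸ rel A ι f))

/-- The projection. -/
def mkB : MvPolynomial (ι ⊕ PUnit.{u + 1}) A →ₐ[A] B A ι f := Ideal.Quotient.mkₐ A (rel A ι f)

theorem mkB_rel : mkB A ι f (∑ i, C (f i) * X (Sum.inl i) - 1) = 0 :=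
  Ideal.Quotient.eq_zero_iff_mem.2 (Ideal.subset_span rfl)

theorem unit_span : Ideal.span (Set.range fun i => algebraMap A (B A ι f) (f i)) = ⊤ := by
  rw [Ideal.eq_top_iff_one]
  have h : (1 : B A ι f) = ∑ i, algebraMap A (B A ι f) (f i) * mkB A ι f (X (Sum.inl i)) := by
    have h0 := mkB_rel A ι f
    simp only [map_sub, map_sum, map_one, map_mul, ← MvPolynomial.algebraMap_eq, AlgHom.commutes, sub_eq_zero] at h0
    exact h0.symm
  rw [h]
  exact Ideal.sum_mem _ fun i _ => Ideal.mul_mem_right _ _ (Ideal.subset_span ⟨i, rfl⟩)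

variable {A ι} (R : Type u) [CommRing R] [Algebra A R] (r : ι → R)
  (hr : ∑ i, algebraMap A R (f i) * r i = 1)

/-- The form `∑ f_i v_i`. -/
def dot : MvPolynomial ι R := ∑ i, C (algebraMap A R (f i)) * X i

/-- The map `B → R[v]`. -/
def toPoly : B A ι f →ₐ[A] MvPolynomial ι R :=
  Ideal.Quotient.liftₐ _ (aeval (Sum.elim (fun i => C (r i) + X i - dot f R * C (r i)) fun _ => dot f R)) (by
    intro p hp
    refine (Ideal.span_le (I := RingHom.ker
      (aeval (Sum.elim (fun i => C (r i) + X i - dot f R * C (r i)) fun _ => dot f R) :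
        MvPolynomial (ι ⊕ PUnit.{u + 1}) A →ₐ[A] MvPolynomial ι R))).2 ?_ hp
    intro q hq
    rw [Set.mem_singleton_iff.1 hq, SetLike.mem_coe, RingHom.mem_ker]
    have h1 : ∑ i, C (algebraMap A R (f i)) * C (r i) = (1 : MvPolynomial ι R) := by
      simp only [← map_mul, ← map_sum, hr, map_one]
    have h2 : ∀ i, algebraMap A (MvPolynomial ι R) (f i) = C (algebraMap A R (f i)) := fun i =>
      IsScalarTower.algebraMap_apply A R _ _
    simp only [map_sub, map_sum, map_one, map_mul, aeval_C, aeval_X, Sum.elim_inl, h2]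
    have h3 : ∀ i, C (algebraMap A R (f i)) * (C (r i) + X i - dot f R * C (r i)) =
        C (algebraMap A R (f i)) * C (r i) + C (algebraMap A R (f i)) * X i -
          dot f R * (C (algebraMap A R (f i)) * C (r i)) := fun i => by ring
    simp only [h3, Finset.sum_sub_distrib, Finset.sum_add_distrib, ← Finset.mul_sum, h1]
    unfold dot
    ring)

/-- The image of `t_i`. -/
def tt (i : ι) : R ⊗[A] B A ι f := 1 ⊗ₜ mkB A ι f (X (Sum.inl i))

/-- The image of `s`. -/
def ss : R ⊗[A] B A ι f := 1 ⊗ₜ mkB A ι f (X (Sum.inr PUnit.unit))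

theorem sum_tt : ∑ i : ι, algebraMap R (R ⊗[A] B A ι f) (algebraMap A R (f i)) * tt f R i = 1 := by
  have h0 := congrArg (Algebra.TensorProduct.includeRight : B A ι f →ₐ[A] R ⊗[A] B A ι f) (mkB_rel A ι f)
  simp only [map_sub, map_sum, map_one, map_mul, ← MvPolynomial.algebraMap_eq, AlgHom.commutes, map_zero,
    sub_eq_zero] at h0
  simp only [← IsScalarTower.algebraMap_apply A R]
  exact h0

/-- The map `R[v] → R ⊗ B`. -/
def ofPoly : MvPolynomial ι R →ₐ[R] R ⊗[A] B A ι f :=
  aeval (R := R) fun i : ι => tt f R i - algebraMap R (R ⊗[A] B A ι f) (r i) + algebraMap R (R ⊗[A] B A ι f) (r i) * ss f R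

include hr in
theorem ofPoly_dot : ofPoly f R r (dot f R) = ss f R := by
  have h1 : ∑ i : ι, algebraMap R (R ⊗[A] B A ι f) (algebraMap A R (f i)) * algebraMap R (R ⊗[A] B A ι f) (r i) = 1 := by
    simp only [← map_mul, ← map_sum, hr, map_one]
  simp only [dot, ofPoly, map_sum, map_mul, aeval_C, aeval_X, mul_add, mul_sub, Finset.sum_add_distrib,
    Finset.sum_sub_distrib, ← mul_assoc, ← Finset.sum_mul, sum_tt, h1]
  ring

/-- `R ⊗ B ≅ R[v]`. -/
def equiv : R ⊗[A] B A ι f ≃ₐ[R] MvPolynomial ι R :=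
  AlgEquiv.ofAlgHom (Algebra.TensorProduct.lift (Algebra.ofId R _) (toPoly f R r hr) fun _ _ => Commute.all _ _)
    (ofPoly f R r)
    (by
      apply MvPolynomial.algHom_ext
      intro i
      simp only [ofPoly, AlgHom.comp_apply, aeval_X, map_add, map_sub, map_mul, AlgHom.commutes, tt, ss,
        Algebra.TensorProduct.lift_tmul, map_one, one_mul, AlgHom.id_apply]
      have e1 : toPoly f R r hr (mkB A ι f (X (Sum.inl i))) = C (r i) + X i - dot f R * C (r i) :=
        aeval_X _ _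
      have e2 : toPoly f R r hr (mkB A ι f (X (Sum.inr PUnit.unit))) = dot f R := aeval_X _ _
      rw [e1, e2, MvPolynomial.algebraMap_eq]
      ring)
    (by
      apply Algebra.TensorProduct.ext (by ext)
      apply Ideal.Quotient.algHom_ext
      apply MvPolynomial.algHom_ext
      rintro (i | ⟨⟩)
      · show ofPoly f R r (Algebra.TensorProduct.lift (Algebra.ofId R _) (toPoly f R r hr)
          (fun _ _ => Commute.all _ _) (1 ⊗ₜ mkB A ι f (X (Sum.inl i)))) = tt f R i
        rw [Algebra.TensorProduct.lift_tmul, map_one, one_mul]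
        have : toPoly f R r hr (mkB A ι f (X (Sum.inl i))) = C (r i) + X i - dot f R * C (r i) :=
          aeval_X _ _
        rw [this, map_sub, map_mul, ofPoly_dot f R r hr, map_add]
        simp only [ofPoly, aeval_X, aeval_C]
        ring
      · show ofPoly f R r (Algebra.TensorProduct.lift (Algebra.ofId R _) (toPoly f R r hr)
          (fun _ _ => Commute.all _ _) (1 ⊗ₜ mkB A ι f (X (Sum.inr PUnit.unit)))) = ss f R
        rw [Algebra.TensorProduct.lift_tmul, map_one, one_mul]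
        have : toPoly f R r hr (mkB A ι f (X (Sum.inr PUnit.unit))) = dot f R :=
          aeval_X _ _
        rw [this, ofPoly_dot f R r hr])

theorem exists_torsor (Y : Scheme.{u}) [Y.IsQuasiAffine] :
    ∃ (n : ℕ) (T : Scheme.{u}) (_ : IsAffine T) (p : T ⟶ Y),
      ∀ (X' : Scheme.{u}) [IsAffine X'] (g : X' ⟶ Y),
        ∃ e : Limits.pullback g p ≅ 𝔸(ULift.{u} (Fin n); X'),
          e.hom ≫ (𝔸(ULift.{u} (Fin n); X') ↘ X') = Limits.pullback.fst g p := by
  classical
  let j := Y.toSpecΓ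
  let W : Set (PrimeSpectrum Γ(Y, ⊤)) := Set.range j
  have hc : IsCompact W := isCompact_range j.continuous
  obtain ⟨s, hs⟩ := PrimeSpectrum.isCompact_isOpen_iff.1 ⟨hc, j.opensRange.2⟩
  let ι := ULift.{u} (Fin s.card)
  let f : ι → Γ(Y, ⊤) := fun k => s.equivFin.symm k.down
  have hrange : Set.range f = (s : Set Γ(Y, ⊤)) := by
    ext a
    exact ⟨fun ⟨k, hk⟩ => hk ▸ (s.equivFin.symm k.down).2,
      fun ha => ⟨⟨s.equivFin ⟨a, ha⟩⟩, by simp [f]⟩⟩
  let φB : Γ(Y, ⊤) ⟶ CommRingCat.of (B Γ(Y, ⊤) ι f) := CommRingCat.ofHom (algebraMap _ _)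
  have hT : Set.range (Spec.map φB) ⊆ Set.range j := by
    rintro _ ⟨q, rfl⟩
    change _ ∈ W
    rw [← hs]
    show ¬ ((s : Set Γ(Y, ⊤)) ⊆ (PrimeSpectrum.comap φB.hom q).asIdeal)
    intro hle
    refine q.isPrime.ne_top (top_le_iff.1 ?_)
    rw [← unit_span Γ(Y, ⊤) ι f, Ideal.span_le]
    rintro _ ⟨k, rfl⟩
    exact hle (hrange ▸ ⟨k, rfl⟩)
  refine ⟨s.card, _, inferInstance, IsOpenImmersion.lift j (Spec.map φB) hT, fun X' _ g => ?_⟩
  let R : Type u := Γ(X', ⊤)
  algebraize [g.appTop.hom]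
  have hg : g ≫ j = X'.isoSpec.hom ≫ Spec.map (CommRingCat.ofHom (algebraMap Γ(Y, ⊤) R)) :=
    Scheme.toSpecΓ_naturality g
  have hspan : Ideal.span (Set.range fun k => algebraMap Γ(Y, ⊤) R (f k)) = ⊤ := by
    by_contra hne
    obtain ⟨m, hm, hle⟩ := Ideal.exists_le_maximal _ hne
    let q : Spec Γ(X', ⊤) := ⟨m, hm.isPrime⟩
    have : Spec.map (CommRingCat.ofHom (algebraMap Γ(Y, ⊤) R)) q ∈ Set.range j := by
      refine ⟨g (X'.isoSpec.inv q), ?_⟩
      rw [← Scheme.Hom.comp_apply, ← Scheme.Hom.comp_apply, hg, Iso.inv_hom_id_assoc]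
    change _ ∈ W at this
    rw [← hs] at this
    replace this : ¬ ((s : Set Γ(Y, ⊤)) ⊆ (PrimeSpectrum.comap (algebraMap Γ(Y, ⊤) R) q).asIdeal) := this
    refine this ?_
    rw [← hrange]
    rintro _ ⟨k, rfl⟩
    exact hle (Ideal.subset_span ⟨k, rfl⟩)
  obtain ⟨r, hr⟩ := Ideal.mem_span_range_iff_exists_fun.1 ((Ideal.eq_top_iff_one _).1 hspan)
  have hr' : ∑ k, algebraMap Γ(Y, ⊤) R (f k) * r k = 1 := by
    rw [← hr]
    exact Finset.sum_congr rfl fun k _ => mul_comm _ _
  let E : pullback (g ≫ j) (Spec.map φB) ≅ Spec (.of (MvPolynomial ι R)) :=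
    pullback.congrHom hg rfl ≪≫
      (asIso (pullback.map _ _ _ _ X'.isoSpec.hom (𝟙 _) (𝟙 _) (by simp) (by simp)) :
        pullback (X'.isoSpec.hom ≫ Spec.map (CommRingCat.ofHom (algebraMap Γ(Y, ⊤) R))) (Spec.map φB) ≅
        pullback (Spec.map (CommRingCat.ofHom (algebraMap Γ(Y, ⊤) R))) (Spec.map φB)) ≪≫
      pullbackSpecIso Γ(Y, ⊤) R (B Γ(Y, ⊤) ι f) ≪≫
      Scheme.Spec.mapIso (equiv f R r hr').symm.toRingEquiv.toCommRingCatIso.op
  let q' := IsOpenImmersion.lift j (Spec.map φB) hT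
  have hq' : q' ≫ j = Spec.map φB := IsOpenImmersion.lift_fac _ _ _
  let E' : pullback g q' ≅ pullback (g ≫ j) (Spec.map φB) :=
    { hom := pullback.lift (pullback.fst _ _) (pullback.snd _ _) (by rw [← hq', pullback.condition_assoc])
      inv := pullback.lift (pullback.fst _ _) (pullback.snd _ _)
        (by rw [← cancel_mono j, Category.assoc, Category.assoc, hq', pullback.condition])
      hom_inv_id := by apply pullback.hom_ext <;> rw [Category.id_comp, Category.assoc] <;>
        first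
          | exact (congrArg (_ ≫ ·) (pullback.lift_fst _ _ _)).trans (pullback.lift_fst _ _ _)
          | exact (congrArg (_ ≫ ·) (pullback.lift_snd _ _ _)).trans (pullback.lift_snd _ _ _)
      inv_hom_id := by apply pullback.hom_ext <;> rw [Category.id_comp, Category.assoc] <;>
        first
          | exact (congrArg (_ ≫ ·) (pullback.lift_fst _ _ _)).trans (pullback.lift_fst _ _ _)
          | exact (congrArg (_ ≫ ·) (pullback.lift_snd _ _ _)).trans (pullback.lift_snd _ _ _) }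
  refine ⟨E' ≪≫ E ≪≫ (AffineSpace.isoOfIsAffine ι X').symm, ?_⟩
  have h1 : CommRingCat.ofHom (MvPolynomial.C : R →+* MvPolynomial ι R) ≫
      (equiv f R r hr').symm.toRingEquiv.toCommRingCatIso.hom =
      CommRingCat.ofHom (algebraMap R (R ⊗[Γ(Y, ⊤)] B Γ(Y, ⊤) ι f)) := by
    ext x
    exact (equiv f R r hr').symm.commutes x
  have h2 : E.hom ≫ Spec.map (CommRingCat.ofHom (MvPolynomial.C : R →+* MvPolynomial ι R)) =
      pullback.fst _ _ ≫ X'.isoSpec.hom := by
    simp only [E, Iso.trans_hom, Functor.mapIso_hom, Iso.op_hom, Scheme.Spec_map, Quiver.Hom.unop_op,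
      Category.assoc, ← Spec.map_comp, h1, pullbackSpecIso_hom_fst', asIso_hom, pullback.congrHom_hom]
    rw [pullback.lift_fst]
    rw [← Category.assoc]
    refine congrArg (fun q => q ≫ X'.isoSpec.hom) ?_
    exact (pullback.lift_fst _ _ _).trans (Category.comp_id _)
  simp only [Iso.trans_hom, Iso.symm_hom, Category.assoc]
  erw [AffineSpace.isoOfIsAffine_inv_over, reassoc_of% h2, Iso.hom_inv_id, Category.comp_id]
  exact pullback.lift_fst _ _ _

end Groth.Agent.Props58.Jouanolou
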