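import Mathlib.AlgebraicGeometry.Noetherian
import Mathlib.RingTheory.Ideal.KrullsHeightTheorem
import Mathlib.RingTheory.Ideal.Height

set_option autoImplicit false
universe u

open CategoryTheory TopologicalSpace AlgebraicGeometry

namespace Groth.Agent.Props58

/-- In a locally Noetherian scheme every point of a set specializes from a minimal one. -/
lemma exists_minimal_generization (S : Scheme.{u}) [IsLocallyNoetherian S] (T : Set S) (t : S)
    (ht : t ∈ T) : ∃ t₀ ∈ T, (∀ t' ∈ T, t' ⤳ t₀ → t' = t₀) ∧ t₀ ⤳ t := by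
  obtain ⟨_, ⟨V, hV, rfl⟩, htV, -⟩ :=
    S.isBasis_affineOpens.exists_subset_of_mem_open (Set.mem_univ t) isOpen_univ
  replace hV : IsAffineOpen V := hV
  have : IsNoetherianRing Γ(S, V) := IsLocallyNoetherian.component_noetherian ⟨V, hV⟩
  have hlift : ∀ y : S, y ⤳ t → ∃ p, hV.fromSpec p = y := fun y hy => by
    have : y ∈ Set.range hV.fromSpec := hV.range_fromSpec ▸ hy.mem_open V.2 htV
    exact this
  obtain ⟨pt, hpt⟩ := hlift t specializes_rfl
  let A : Set (PrimeSpectrum Γ(S, V)) := {p | hV.fromSpec p ∈ T ∧ hV.fromSpec p ⤳ t}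
  have hA : A.Nonempty := ⟨pt, by show hV.fromSpec pt ∈ T; rwa [hpt],
    by show hV.fromSpec pt ⤳ t; rw [hpt]⟩
  obtain ⟨p₀, ⟨hp₀T, hp₀t⟩, hmin⟩ :=
    (InvImage.wf (fun p : PrimeSpectrum Γ(S, V) => p.asIdeal.height) wellFounded_lt).has_min A hA
  refine ⟨_, hp₀T, fun t' ht' hsp => ?_, hp₀t⟩
  obtain ⟨p, rfl⟩ := hlift t' (hsp.trans hp₀t)
  have hle : p.asIdeal ≤ p₀.asIdeal :=
    ((PrimeSpectrum.le_iff_specializes (R := Γ(S, V)) p p₀).mpr
      (hV.fromSpec.isOpenEmbedding.isInducing.specializes_iff.mp hsp) :)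
  rcases hle.eq_or_lt with heq | hlt
  · exact congrArg hV.fromSpec (PrimeSpectrum.ext heq)
  have hp : p.asIdeal.IsPrime := PrimeSpectrum.isPrime p
  exact (hmin p ⟨ht', hsp.trans hp₀t⟩ (Ideal.height_strict_mono_of_isPrime hlt)).elim

variable {X : Type*} [TopologicalSpace X] [NoetherianSpace X] [QuasiSober X]

/-- An infinite set contains an infinite antichain for specialization. -/
lemma exists_infinite_antichain
    (hgen : ∀ (T : Set X) (t : X), t ∈ T → ∃ t₀ ∈ T, (∀ t' ∈ T, t' ⤳ t₀ → t' = t₀) ∧ t₀ ⤳ t)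
    (T : Set X) (hT : T.Infinite) :
    ∃ T' : Set X, T' ⊆ T ∧ T'.Infinite ∧ ∀ a ∈ T', ∀ b ∈ T', a ⤳ b → a = b := by
  by_contra hc
  push Not at hc
  have key : ∀ A ⊆ T, A.Infinite → ∃ m ∈ A, (A ∩ closure {m}).Infinite := by
    intro A hA hAinf
    let M : Set X := {m ∈ A | ∀ t' ∈ A, t' ⤳ m → t' = m}
    have hM : M.Finite := by
      by_contra hM
      obtain ⟨a, ha, b, hb, hab, hne⟩ := hc M (fun m hm => hA hm.1) hM
      exact hne (hb.2 a ha.1 hab)
    by_contra hfin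
    push Not at hfin
    refine hAinf (Set.Finite.subset (hM.biUnion fun m hm => hfin m hm.1) fun a ha => ?_)
    obtain ⟨m, hm, hmin, hma⟩ := hgen A a ha
    exact Set.mem_biUnion (x := m) ⟨hm, hmin⟩ ⟨ha, hma.mem_closure⟩
  let 𝒞 : Set (Closeds X) := {C | ∃ m ∈ T, (C : Set X) = closure {m} ∧ (T ∩ closure {m}).Infinite}
  obtain ⟨m, hm, hminf⟩ := key T subset_rfl hT
  obtain ⟨C, ⟨m, hmT, hC, hminf⟩, hmin⟩ := wellFounded_lt.has_min 𝒞
    ⟨⟨closure {m}, isClosed_closure⟩, m, hm, rfl, hminf⟩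
  have hd : ((T ∩ closure {m}) \ {y | y ⤳ m}).Infinite := by
    intro hfin
    apply hminf
    have hsub : T ∩ closure {m} ∩ {y | y ⤳ m} ⊆ T ∩ closure {m} ∩ {y | y ⤳ m ∧ m ⤳ y} :=
      fun y hy => ⟨hy.1, hy.2, specializes_iff_mem_closure.mpr hy.1.2⟩
    by_contra hinf
    have hS : (T ∩ closure {m} ∩ {y | y ⤳ m ∧ m ⤳ y}).Infinite := fun hfin' =>
      hinf ((hfin.union (hfin'.subset hsub)).subset fun y hy => by
        by_cases h : y ⤳ m
        · exact .inr ⟨hy, h⟩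
        · exact .inl ⟨hy, h⟩)
    obtain ⟨m₀, hm₀, hm₀inf⟩ := key _ (fun y hy => hy.1.1) hS
    obtain ⟨a, ha, b, hb, hab, hne⟩ := hc _ (fun y hy => hy.1.1) hS
    obtain ⟨t₀, ht₀, hmin₀, -⟩ := hgen _ a ha
    exact hne ((hmin₀ a ha (ha.2.1.trans ht₀.2.2)).trans (hmin₀ b hb (hb.2.1.trans ht₀.2.2)).symm)
  obtain ⟨m', hm', hm'inf⟩ := key _ (fun y hy => hy.1.1) hd
  refine hmin ⟨closure {m'}, isClosed_closure⟩ ⟨m', hm'.1.1, rfl,
    hm'inf.mono fun y hy => ⟨hy.1.1.1, hy.2⟩⟩ ?_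
  have hle : closure ({m'} : Set X) ⊆ closure {m} :=
    closure_minimal (Set.singleton_subset_iff.mpr hm'.1.2) isClosed_closure
  have h1 : (⟨closure {m'}, isClosed_closure⟩ : Closeds X) ≤ C := fun y hy => by
    show y ∈ (C : Set X); rw [hC]; exact hle hy
  refine lt_of_le_of_ne h1 fun h => hm'.2 ?_
  refine specializes_iff_mem_closure.mpr ?_
  have : (C : Set X) = closure {m'} := congrArg (fun D : Closeds X => (D : Set X)) h.symm
  rw [← this, hC]
  exact subset_closure rfl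

/-- A dense set has a countable dense subset. -/
lemma exists_countable_dense
    (hgen : ∀ (T : Set X) (t : X), t ∈ T → ∃ t₀ ∈ T, (∀ t' ∈ T, t' ⤳ t₀ → t' = t₀) ∧ t₀ ⤳ t)
    (T : Set X) (hd : Dense T) : ∃ E : Set X, E ⊆ T ∧ E.Countable ∧ Dense E := by
  let G : Set X := {w | ∃ E ⊆ T, E.Countable ∧ closure E = closure {w}}
  let M : Set X := {m ∈ G | ∀ t' ∈ G, t' ⤳ m → t' = m}
  have hTG : T ⊆ G := fun t ht => ⟨{t}, Set.singleton_subset_iff.mpr ht, Set.countable_singleton t, rfl⟩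
  choose! E hET hEc hEcl using fun (m : X) (hm : m ∈ G) => hm
  by_cases hM : M.Countable
  · refine ⟨⋃ m ∈ M, E m, Set.iUnion₂_subset fun m hm => hET m hm.1,
      hM.biUnion fun m hm => hEc m hm.1, dense_iff_closure_eq.mpr ?_⟩
    refine Set.eq_univ_of_univ_subset ?_
    rw [← hd.closure_eq]
    refine closure_minimal (fun t ht => ?_) isClosed_closure
    obtain ⟨m, hm, hmin, hmt⟩ := hgen G t (hTG ht)
    refine closure_mono (Set.subset_biUnion_of_mem (u := E) (show m ∈ M from ⟨hm, hmin⟩)) ?_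
    rw [hEcl m hm]
    exact hmt.mem_closure
  exfalso
  have hinf : M.Infinite := fun h => hM h.countable
  let φ : ℕ ↪ M := hinf.natEmbedding
  let M₀ : Set X := Set.range fun n => (φ n).1
  have hinj : Function.Injective fun n => (φ n).1 := Subtype.val_injective.comp φ.injective
  let C := closure M₀
  obtain ⟨S, hSfin, hScl, hSirr, hS⟩ :=
    NoetherianSpace.exists_finite_set_isClosed_irreducible (isClosed_closure (s := M₀))
  have hcov : M₀ ⊆ ⋃₀ S := hS ▸ subset_closure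
  obtain ⟨W, hW, hWinf⟩ : ∃ W ∈ S, (M₀ ∩ W).Infinite := by
    by_contra h
    push Not at h
    refine Set.infinite_range_of_injective hinj (Set.Finite.subset (hSfin.biUnion h) fun y hy => ?_)
    obtain ⟨W, hW, hyW⟩ := hcov hy
    exact Set.mem_biUnion hW ⟨hy, hyW⟩
  let W' := closure (M₀ ∩ W)
  obtain ⟨R, hRfin, hRcl, hRirr, hR⟩ :=
    NoetherianSpace.exists_finite_set_isClosed_irreducible (isClosed_closure (s := M₀ ∩ W))
  obtain ⟨V, hV, hVinf⟩ : ∃ V ∈ R, (M₀ ∩ W ∩ V).Infinite ∧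
      closure (M₀ ∩ W ∩ V) = V := by
    -- components whose trace is not dense can be removed
    have hR' : closure (M₀ ∩ W) ⊆ ⋃ V ∈ R, closure (M₀ ∩ W ∩ V) := by
      refine closure_minimal (fun y hy => ?_) (hRfin.isClosed_biUnion fun _ _ => isClosed_closure)
      obtain ⟨V, hV, hyV⟩ : y ∈ ⋃₀ R := hR ▸ subset_closure hy
      exact Set.mem_biUnion hV (subset_closure ⟨hy, hyV⟩)
    have hmax : ∃ R' ⊆ R, closure (M₀ ∩ W) ⊆ ⋃₀ R' ∧
        ∀ R'' ⊆ R', closure (M₀ ∩ W) ⊆ ⋃₀ R'' → R'' = R' := by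
      obtain ⟨R', ⟨hR'R, hR'c⟩, hmin⟩ := Set.Finite.exists_minimal
        (s := {R' : Set (Set X) | R' ⊆ R ∧ closure (M₀ ∩ W) ⊆ ⋃₀ R'})
        (hRfin.finite_subsets.subset fun _ h => h.1) ⟨R, subset_rfl, hR.le⟩
      exact ⟨R', hR'R, hR'c, fun R'' h h' => h.antisymm (hmin ⟨h.trans hR'R, h'⟩ h)⟩
    obtain ⟨R', hR'R, hR'c, hR'min⟩ := hmax
    obtain ⟨V, hV, hVinf⟩ : ∃ V ∈ R', (M₀ ∩ W ∩ V).Infinite := by
      by_contra h
      push Not at h
      refine hWinf (Set.Finite.subset ((hRfin.subset hR'R).biUnion h) fun y hy => ?_)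
      obtain ⟨V, hV, hyV⟩ := hR'c (subset_closure hy)
      exact Set.mem_biUnion hV ⟨hy, hyV⟩
    refine ⟨V, hR'R hV, hVinf, (closure_minimal Set.inter_subset_right (hRcl V (hR'R hV))).antisymm ?_⟩
    by_contra hne
    have hcov' : (V : Set X) ⊆ closure (M₀ ∩ W ∩ V) ∪ ⋃₀ (R' \ {V}) := by
      intro y hy
      have hy' : y ∈ closure (M₀ ∩ W) := by rw [hR]; exact ⟨V, hR'R hV, hy⟩
      have : closure (M₀ ∩ W) ⊆ closure (M₀ ∩ W ∩ V) ∪ ⋃₀ (R' \ {V}) := by
        refine closure_minimal (fun z hz => ?_) (isClosed_closure.union ?_)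
        · obtain ⟨V', hV', hzV'⟩ := hR'c (subset_closure hz)
          by_cases hVV : V' = V
          · exact .inl (subset_closure ⟨hz, hVV ▸ hzV'⟩)
          · exact .inr ⟨V', ⟨hV', hVV⟩, hzV'⟩
        · rw [Set.sUnion_eq_biUnion]
          exact ((hRfin.subset hR'R).subset Set.sdiff_subset).isClosed_biUnion
            fun V' h => hRcl V' (hR'R h.1)
      exact this hy'
    rcases (isPreirreducible_iff_isClosed_union_isClosed.mp (hRirr V (hR'R hV)).2) _ _
      isClosed_closure (by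
        rw [Set.sUnion_eq_biUnion]
        exact ((hRfin.subset hR'R).subset Set.sdiff_subset).isClosed_biUnion
          fun V' h => hRcl V' (hR'R h.1)) hcov' with h | h
    · exact hne h
    · have := hR'min (R' \ {V}) Set.sdiff_subset fun y hy => by
        obtain ⟨V', hV', hyV'⟩ := hR'c hy
        by_cases hVV : V' = V
        · exact h (hVV ▸ hyV')
        · exact ⟨V', ⟨hV', hVV⟩, hyV'⟩
      exact (this.ge hV).2 rfl
  obtain ⟨hVinf, hVd⟩ := hVinf
  have hg : IsGenericPoint (hRirr V hV).genericPoint V :=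
    (hRirr V hV).isGenericPoint_genericPoint (hRcl V hV)
  let ω := (hRirr V hV).genericPoint
  have hM₀M : M₀ ⊆ M := by rintro _ ⟨n, rfl⟩; exact (φ n).2
  have hω : ω ∈ G := by
    refine ⟨⋃ m ∈ M₀ ∩ W ∩ V, E m, Set.iUnion₂_subset fun m hm => hET m (hM₀M hm.1.1).1,
      (((Set.countable_range _).mono fun y hy => hy.1.1).biUnion fun m hm => hEc m (hM₀M hm.1.1).1),
      ?_⟩
    rw [hg.def]
    apply le_antisymm
    · refine closure_minimal (Set.iUnion₂_subset fun m hm => ?_) (hRcl V hV)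
      refine subset_closure.trans ?_
      rw [hEcl m (hM₀M hm.1.1).1]
      exact closure_minimal (Set.singleton_subset_iff.mpr hm.2) (hRcl V hV)
    · calc V = closure (M₀ ∩ W ∩ V) := hVd.symm
        _ ⊆ _ := closure_minimal (fun m hm => by
            refine closure_mono (Set.subset_biUnion_of_mem (u := E) hm) ?_
            rw [hEcl m (hM₀M hm.1.1).1]
            exact subset_closure rfl) isClosed_closure
  refine hVinf (Set.Subsingleton.finite fun a ha b hb => ?_)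
  rw [← (hM₀M ha.1.1).2 ω hω (hg.specializes ha.2), ← (hM₀M hb.1.1).2 ω hω (hg.specializes hb.2)]

end Groth.Agent.Props58
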