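import Groth.Agent.Props58.PullTensor
import Groth.Agent.EGA73.TwistInvertible

/-!
Ampleness of a twist on a quasi-compact open of Proj.
-/

universe u

open CategoryTheory CategoryTheory.Limits AlgebraicGeometry TopologicalSpace Opposite GrTilde

noncomputable section

namespace Groth.Agent.Props58.ProjAmple

open Var76.LineBundle Var76.ZeroScheme

variable {R A : Type u} [CommRing R] [CommRing A] [Algebra R A] {𝒜 : ℕ → Submodule R A} [GradedAlgebra 𝒜]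
  {d : ℕ} {f : A} (hf : f ∈ 𝒜 d)

/-- The section `f` of `O(d)`. -/
def degSect (U : Opens (ProjectiveSpectrum.top 𝒜)) : Twist.sectN (𝒜 := 𝒜) (d : ℤ) (op U) :=
  EGA73.ofTildeFun _ _ (EGA73.fracSect (i := d) (j := 0) hf SetLike.GradedOne.one_mem
    (fun x h => x.1.isPrime.ne_top ((Ideal.eq_top_iff_one _).2 h)) (by simp))

/-- `f` as a unit section on `D₊(f)`. -/
def degUnit : EGA73.TwistUnit (𝒜 := 𝒜) (d : ℤ) (ProjectiveSpectrum.basicOpen 𝒜 f) where
  fwd := degSect hf _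
  bwd := EGA73.ofTildeFun _ _ (EGA73.fracSect (i := 0) (j := d) SetLike.GradedOne.one_mem hf
    (fun x => x.2) (by simp))
  mul_eq x := by
    have := (x.1 : ProjectiveSpectrum 𝒜).isPrime
    show Localization.mk _ _ * Localization.mk _ _ = 1
    rw [Localization.mk_mul, ← Localization.mk_self (1 : x.1.asHomogeneousIdeal.toIdeal.primeCompl),
      Localization.mk_eq_mk_iff, Localization.r_iff_exists]
    exact ⟨1, by simp⟩

/-- `f` as a section of the module `O(d)`. -/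
def degSec (U : (Proj 𝒜).Opens) : Γ(Twist.twist 𝒜 (d : ℤ), U) := degSect hf U

theorem isFrame_degUnit :
    IsFrame (Twist.twist 𝒜 (d : ℤ)) (Proj.basicOpen 𝒜 f) (degSec hf (Proj.basicOpen 𝒜 f)) := fun _ hV =>
  EGA73.smul_unit_bijective ((degUnit hf).res hV)

/-- The global section `f` of `O(d)`. -/
def degHom : Coh.structureModule (Proj 𝒜) ⟶ Twist.twist 𝒜 (d : ℤ) :=
  EGA73.unitHom _ (degSec hf ⊤)

theorem val_degHom (U : (Proj 𝒜).Opens) :
    val (Twist.twist 𝒜 (d : ℤ)) (degHom hf) U = degSec hf U :=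
  one_smul Γ(Proj 𝒜, U) (degSec hf U)

theorem basicOpen_le_genLocus :
    Proj.basicOpen 𝒜 f ≤ CohB1.genLocus (Twist.twist 𝒜 (d : ℤ)) (degHom hf) := by
  rw [← Amp73.isFrame_iff_le_genLocus, val_degHom]
  exact isFrame_degUnit hf

theorem genLocus_inf_basicOpen_le {g : A} (hg : g ∈ 𝒜 d) :
    CohB1.genLocus (Twist.twist 𝒜 (d : ℤ)) (degHom hf) ⊓ Proj.basicOpen 𝒜 g ≤ Proj.basicOpen 𝒜 f := by
  set V := CohB1.genLocus (Twist.twist 𝒜 (d : ℤ)) (degHom hf) ⊓ Proj.basicOpen 𝒜 g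
  intro x hx
  have := (x : ProjectiveSpectrum 𝒜).isPrime
  have hV := (Amp73.isFrame_iff_le_genLocus (degHom hf) V).2 inf_le_left
  rw [val_degHom] at hV
  obtain ⟨a, ha⟩ := (hV V le_rfl).2 (degSec hg V)
  dsimp only at ha
  rw [Amp73.res_self] at ha
  let y : (op V).unop := ⟨x, hx⟩
  have h1 : (((a : Twist.O (𝒜 := 𝒜) (op V)).1 y • (degSect hf V).1 y : Twist.twistAt 𝒜 (d : ℤ) x) :
      Twist.Loc 𝒜 x) = ((degSect hg V).1 y).1 :=
    congrArg (fun q : Twist.sectN (𝒜 := 𝒜) (d : ℤ) (op V) => (q.1 y).1) ha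
  have h1 := (Twist.coe_smul_val (d : ℤ) x ((a : Twist.O (𝒜 := 𝒜) (op V)).1 y) ((degSect hf V).1 y)).symm.trans h1
  have hu : IsUnit ((((degSect hf V).1 y) : Twist.Loc 𝒜 x)) := by
    refine isUnit_of_mul_isUnit_right (x := ((a : Twist.O (𝒜 := 𝒜) (op V)).1 y).val) ?_
    rw [h1]
    show IsUnit (Localization.mk g 1)
    rw [Localization.mk_one_eq_algebraMap]
    exact IsLocalization.map_units _ (⟨g, hx.2⟩ : x.asHomogeneousIdeal.toIdeal.primeCompl)
  have hu' : IsUnit (algebraMap A (Twist.Loc 𝒜 x) f) := by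
    rw [← Localization.mk_one_eq_algebraMap]
    exact hu
  exact (IsLocalization.AtPrime.isUnit_to_map_iff (Twist.Loc 𝒜 x) x.asHomogeneousIdeal.toIdeal f).1 hu'

theorem genLocus_pullHom_le {X : Scheme.{u}} (j : X ⟶ Proj 𝒜) {g : A} (hg : g ∈ 𝒜 d) :
    CohB1.genLocus _ (Amp73.pullHom j (degHom hf)) ⊓ j ⁻¹ᵁ Proj.basicOpen 𝒜 g ≤ j ⁻¹ᵁ Proj.basicOpen 𝒜 f := by
  have he := isFrame_degUnit hg
  obtain ⟨c, hc⟩ := Amp73.exists_coord (degHom hf) he
  have hc' : j.app _ c • Amp73.pullS j (Twist.twist 𝒜 (d : ℤ)) (Proj.basicOpen 𝒜 g)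
      (degSec hg (Proj.basicOpen 𝒜 g)) =
        val _ (Amp73.pullHom j (degHom hf)) (j ⁻¹ᵁ Proj.basicOpen 𝒜 g) := by
    rw [Amp73.val_pullHom, ← Amp73.pullS_smul]
    exact congrArg _ hc
  rw [Amp73.genLocus_inf_eq_basicOpen _ (PullTensor.isFrame_pullS j he) hc', ← Scheme.preimage_basicOpen,
    ← Amp73.genLocus_inf_eq_basicOpen _ he hc]
  exact j.preimage_mono (genLocus_inf_basicOpen_le hf hg)

/-- Quasi-compact opens of `Proj` carry ample twists. -/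
theorem exists_isAmple (X : Scheme.{u}) [CompactSpace X] (j : X ⟶ Proj 𝒜) [IsOpenImmersion j] :
    ∃ d : ℕ, 0 < d ∧ CohB1.IsAmple ((Scheme.Modules.pullback j).obj (Twist.twist 𝒜 (d : ℤ))) := by
  classical
  have hex : ∀ x : X, ∃ (i : ℕ) (f : A), 0 < i ∧ f ∈ 𝒜 i ∧ j.base x ∈ Proj.basicOpen 𝒜 f ∧
      Proj.basicOpen 𝒜 f ≤ j.opensRange := by
    intro x
    obtain ⟨_, ⟨a, rfl⟩, hxa, hle⟩ := (ProjectiveSpectrum.isTopologicalBasis_basic_opens 𝒜).exists_subset_of_mem_open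
      (show j.base x ∈ (j.opensRange : Set _) from ⟨x, rfl⟩) j.opensRange.2
    change j.base x ∈ ProjectiveSpectrum.basicOpen 𝒜 a at hxa
    have hUa := ProjectiveSpectrum.basicOpen_eq_union_of_projection 𝒜 a
    have hxa' := hxa
    rw [hUa] at hxa'
    obtain ⟨i, hxi⟩ := Opens.mem_iSup.1 hxa'
    obtain ⟨g, hg, hgx⟩ := SetLike.not_le_iff_exists.1
      (j.base x : ProjectiveSpectrum 𝒜).not_irrelevant_le
    obtain ⟨k, hk⟩ : ∃ k, GradedRing.proj 𝒜 k g ∉ (j.base x : ProjectiveSpectrum 𝒜).asHomogeneousIdeal := by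
      by_contra H
      push Not at H
      exact hgx (((j.base x : ProjectiveSpectrum 𝒜).asHomogeneousIdeal.isHomogeneous).mem_iff.2 H)
    have hk0 : 0 < k := by
      rcases Nat.eq_zero_or_pos k with rfl | h
      · exact absurd (by rw [(HomogeneousIdeal.mem_irrelevant_iff 𝒜 g).1 hg]; exact zero_mem _) hk
      · exact h
    refine ⟨i + k, GradedRing.proj 𝒜 i a * GradedRing.proj 𝒜 k g, by omega,
      SetLike.mul_mem_graded (SetLike.coe_mem _) (SetLike.coe_mem _), ?_, ?_⟩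
    · rw [Proj.basicOpen_mul]
      exact ⟨hxi, hk⟩
    · rw [Proj.basicOpen_mul]
      refine inf_le_left.trans (le_trans ?_ hle)
      rw [hUa]
      exact le_iSup (fun n => ProjectiveSpectrum.basicOpen 𝒜 (GradedRing.proj 𝒜 n a)) i
  choose deg f hpos hf hxf hle using hex
  obtain ⟨T, hT⟩ := isCompact_univ.elim_finite_subcover (fun x : X => ((j ⁻¹ᵁ Proj.basicOpen 𝒜 (f x)) : Set X))
    (fun x => (j ⁻¹ᵁ Proj.basicOpen 𝒜 (f x)).2) (fun x _ => Set.mem_iUnion.2 ⟨x, hxf x⟩)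
  refine ⟨∏ t ∈ T, deg t, Finset.prod_pos fun t _ => hpos t, ?_⟩
  set d := ∏ t ∈ T, deg t with hd
  have key : ∀ x : X, ∃ g : A, g ∈ 𝒜 d ∧ j.base x ∈ Proj.basicOpen 𝒜 g ∧ Proj.basicOpen 𝒜 g ≤ j.opensRange := by
    intro x
    obtain ⟨t, ht, hxt⟩ := Set.mem_iUnion₂.1 (hT (Set.mem_univ x))
    obtain ⟨m, hm⟩ := Finset.dvd_prod_of_mem deg ht
    have hm0 : 0 < m := by
      have : 0 < d := Finset.prod_pos fun t _ => hpos t
      rw [hd, hm] at this
      exact Nat.pos_of_mul_pos_left this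
    have hb : Proj.basicOpen 𝒜 (f t ^ m) = Proj.basicOpen 𝒜 (f t) := Proj.basicOpen_pow 𝒜 _ m hm0
    refine ⟨f t ^ m, ?_, hb.ge hxt, hb.le.trans (hle t)⟩
    rw [hd, hm, Nat.mul_comm]
    exact SetLike.pow_mem_graded m (hf t)
  choose g hg hxg hgle using key
  refine Amp73.isAmple_iff.2 ⟨Mero90.isInvertible_of_frames fun x =>
    ⟨_, hxg x, _, PullTensor.isFrame_pullS j (isFrame_degUnit (hg x))⟩, inferInstance, fun x => ?_⟩
  have e : CohB1.genLocus _ (Amp73.pullHom j (degHom (hg x))) = j ⁻¹ᵁ Proj.basicOpen 𝒜 (g x) :=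
    le_antisymm (fun y hy => genLocus_pullHom_le (hg x) j (hg y) ⟨hy, hxg y⟩)
      ((j.preimage_mono (basicOpen_le_genLocus _)).trans (Amp73.le_genLocus_map _ _))
  refine ⟨_, e ▸ Amp73.mem_genSet_one _, hxg x, ?_⟩
  exact (Proj.isAffineOpen_basicOpen 𝒜 _ (hg x) (Finset.prod_pos fun t _ => hpos t)).preimage_of_isOpenImmersion j
    (hgle x)

end Groth.Agent.Props58.ProjAmple
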